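import Mathlib
import Cfsg.Prelude.Def_FusionSystem
import Cfsg.Agent.Lib.Helper26.FusEmb
import Cfsg.Agent.Lib.Helper26.FusAut
import Cfsg.Agent.Lib.Lead.Cores

set_option autoImplicit false
open Cfsg

namespace Cfsg.Agent.Lib.Helper27.EssAut

open Cfsg.FusionSystem Cfsg.Agent.Lib.Helper26

universe u

/-- The automizer of an essential subgroup has no normal Sylow `p`-subgroup. -/
theorem ess_no_normal_sylow {Ω : Type u} [Group Ω] {S : Subgroup Ω} [Finite S] (p : ℕ)
    [Fact p.Prime] (F : Cfsg.FusionSystem S) {H : Subgroup Ω} (hH : F.IsEssential p H)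
    (R : Sylow p (F.autGroup H)) : ¬ (R : Subgroup (F.autGroup H)).Normal := by
  intro hRn
  obtain ⟨hc, hfn, hN, E, hE⟩ := hH
  have hfin : Finite H := finite_of_le hc.1
  have hfinA : Finite (MulAut H) := inferInstance
  have hcore : pCore p (F.autGroup H ⧸ (Inn H).subgroupOf (F.autGroup H)) = ⊥ :=
    pCore_eq_bot_of_stronglyPEmbedded hE
  have himg : (R : Subgroup (F.autGroup H)).map
      (QuotientGroup.mk' ((Inn H).subgroupOf (F.autGroup H))) ≤
      pCore p (F.autGroup H ⧸ (Inn H).subgroupOf (F.autGroup H)) :=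
    Cfsg.Agent.Lib.Lead.Cores.le_pCore
      (hRn.map _ (QuotientGroup.mk'_surjective _)) (R.isPGroup'.map _)
  rw [hcore] at himg
  have hRN : (R : Subgroup (F.autGroup H)) ≤ (Inn H).subgroupOf (F.autGroup H) := by
    intro r hr
    have h1 := himg (Subgroup.mem_map_of_mem _ hr)
    rwa [Subgroup.mem_bot, QuotientGroup.mk'_apply, QuotientGroup.eq_one_iff] at h1
  have h1 : p ∣ ((Inn H).subgroupOf (F.autGroup H)).index := hE.1
  exact R.not_dvd_index (dvd_trans h1 (Subgroup.index_dvd_of_le hRN))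

/-- `p` divides the order of the automizer of an essential subgroup. -/
theorem ess_dvd_card {Ω : Type u} [Group Ω] {S : Subgroup Ω} [Finite S] (p : ℕ)
    [Fact p.Prime] (F : Cfsg.FusionSystem S) {H : Subgroup Ω} (hH : F.IsEssential p H) :
    p ∣ Nat.card (F.autGroup H) := by
  obtain ⟨hc, hfn, hN, E, hE⟩ := hH
  have h1 : p ∣ ((Inn H).subgroupOf (F.autGroup H)).index := hE.1
  exact dvd_trans h1 (Subgroup.index_dvd_card _)

variable {H : Type*} [Group H]

/-- A `p`-group of automorphisms of a finite group of order divisible by `p` has a nontrivial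
common fixed point. -/
theorem exists_fixed [Finite H] {p : ℕ} [Fact p.Prime] (P : Subgroup (MulAut H))
    (hP : IsPGroup p P) (hp : p ∣ Nat.card H) : ∃ e : H, e ≠ 1 ∧ ∀ γ ∈ P, γ e = e := by
  have h1 : (1 : H) ∈ MulAction.fixedPoints P H := by
    intro g
    show (g : MulAut H) (1 : H) = 1
    exact map_one _
  obtain ⟨b, hb, hne⟩ := hP.exists_fixed_point_of_prime_dvd_card_of_fixed_point H hp h1
  exact ⟨b, hne.symm, fun γ hγ => hb ⟨γ, hγ⟩⟩

theorem pow_apply_pow (γ : MulAut H) {y : H} {i : ℕ} (h : γ y = y ^ i) (n : ℕ) :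
    (γ ^ n) y = y ^ (i ^ n) := by
  induction n with
  | zero => simp
  | succ n ih =>
    rw [pow_succ', MulAut.mul_apply, ih, map_pow, h, ← pow_mul, pow_succ']

theorem pow_apply_mul (γ : MulAut H) {x l : H} (h : γ x = x * l) (hl : γ l = l) (n : ℕ) :
    (γ ^ n) x = x * l ^ n := by
  induction n with
  | zero => simp
  | succ n ih =>
    rw [pow_succ', MulAut.mul_apply, ih, map_mul, map_pow, h, hl, mul_assoc, ← pow_succ']

theorem pow_apply_fix (γ : MulAut H) {x : H} (h : γ x = x) (n : ℕ) : (γ ^ n) x = x := by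
  induction n with
  | zero => simp
  | succ n ih => rw [pow_succ', MulAut.mul_apply, ih, h]

/-- An automorphism of `p`-power order mapping an element of order `p` to a power of itself
fixes it. -/
theorem fix_of_prime_order {p : ℕ} [Fact p.Prime] (γ : MulAut H) {m : ℕ} (hγ : γ ^ p ^ m = 1)
    {y : H} (hy : orderOf y = p) {i : ℕ} (h : γ y = y ^ i) : γ y = y := by
  have h1 := pow_apply_pow γ h (p ^ m)
  rw [hγ, MulAut.one_apply] at h1
  have h2 : y ^ 1 = y ^ (i ^ p ^ m) := by rw [pow_one]; exact h1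
  rw [pow_eq_pow_iff_modEq, hy] at h2
  have h3 : ((i : ZMod p)) ^ p ^ m = 1 := by
    have := (ZMod.natCast_eq_natCast_iff _ _ _).2 h2
    push_cast at this
    exact this.symm
  rw [ZMod.pow_card_pow] at h3
  have h4 : i ≡ 1 [MOD p] := by
    rw [← ZMod.natCast_eq_natCast_iff]
    simpa using h3
  rw [h]
  calc y ^ i = y ^ 1 := by rw [pow_eq_pow_iff_modEq, hy]; exact h4
    _ = y := pow_one y

/-- In an abelian group of order `p²`, an automorphism of `p`-power order fixing a subgroup `L`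
of order `p` pointwise acts trivially modulo `L`. -/
theorem trans_of_fix [Finite H] {p : ℕ} [Fact p.Prime] (hcomm : ∀ x y : H, x * y = y * x)
    (hcard : Nat.card H = p ^ 2) (γ : MulAut H) {m : ℕ} (hγ : γ ^ p ^ m = 1) (L : Subgroup H)
    (hL : Nat.card L = p) (hfix : ∀ x ∈ L, γ x = x) : ∀ x : H, x⁻¹ * γ x ∈ L := by
  have hp : p.Prime := Fact.out
  by_cases h1 : γ = 1
  · intro x
    rw [h1]
    simp
  let δ : H →* H :=
    { toFun := fun x => x⁻¹ * γ x
      map_one' := by simp
      map_mul' := by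
        intro x y
        rw [map_mul, mul_inv_rev]
        calc y⁻¹ * x⁻¹ * (γ x * γ y) = y⁻¹ * (x⁻¹ * γ x) * γ y := by simp only [mul_assoc]
          _ = (x⁻¹ * γ x) * y⁻¹ * γ y := by rw [hcomm y⁻¹ (x⁻¹ * γ x)]
          _ = x⁻¹ * γ x * (y⁻¹ * γ y) := by simp only [mul_assoc] }
  have hδ : ∀ x, δ x = x⁻¹ * γ x := fun _ => rfl
  have hker : δ.ker = L := by
    have hle : L ≤ δ.ker := by
      intro x hx
      rw [MonoidHom.mem_ker, hδ, hfix x hx, inv_mul_cancel]
    have hne : δ.ker ≠ ⊤ := by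
      intro htop
      apply h1
      ext x
      have : x ∈ δ.ker := htop ▸ Subgroup.mem_top x
      rw [MonoidHom.mem_ker, hδ] at this
      rw [MulAut.one_apply]
      exact (inv_mul_eq_one.mp this).symm
    have hdvd : Nat.card δ.ker ∣ p ^ 2 := hcard ▸ Subgroup.card_subgroup_dvd_card _
    obtain ⟨j, hj, hjc⟩ := (Nat.dvd_prime_pow hp).1 hdvd
    have hLle : p ≤ Nat.card δ.ker := hL ▸ Subgroup.card_le_of_le hle
    have hj2 : j ≠ 2 := by
      intro h
      apply hne
      apply Subgroup.eq_top_of_card_eq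
      rw [hjc, h, hcard]
    have hj1 : j = 1 := by
      interval_cases j
      · rw [hjc, pow_zero] at hLle
        have := hp.one_lt
        omega
      · rfl
      · exact absurd rfl hj2
    symm
    apply Subgroup.eq_of_le_of_card_ge hle
    rw [hjc, hj1, pow_one, hL]
  have hrange : Nat.card δ.range = p := by
    have h2 := Subgroup.card_mul_index δ.ker
    rw [Subgroup.index_ker, hker, hL, hcard, pow_two] at h2
    exact Nat.eq_of_mul_eq_mul_left hp.pos h2
  obtain ⟨x₀, hx₀⟩ : ∃ x₀ : H, δ x₀ ≠ 1 := by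
    by_contra hall
    push Not at hall
    apply h1
    ext x
    have := hall x
    rw [hδ] at this
    rw [MulAut.one_apply]
    exact (inv_mul_eq_one.mp this).symm
  obtain ⟨y, hy⟩ : ∃ y, y = δ x₀ := ⟨_, rfl⟩
  rw [← hy] at hx₀
  have hy_mem : y ∈ δ.range := ⟨x₀, hy.symm⟩
  have hyord : orderOf y = p := by
    have h2 : orderOf (⟨y, hy_mem⟩ : δ.range) ∣ p := hrange ▸ orderOf_dvd_natCard _
    rw [Subgroup.orderOf_mk] at h2
    rcases (Nat.dvd_prime hp).1 h2 with h | h
    · exact absurd (orderOf_eq_one_iff.1 h) hx₀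
    · exact h
  have hzp : Subgroup.zpowers y = δ.range := by
    apply Subgroup.eq_of_le_of_card_ge
    · rw [Subgroup.zpowers_le]
      exact hy_mem
    · rw [Nat.card_zpowers, hyord, hrange]
  have hγy : γ y ∈ Subgroup.zpowers y := by
    rw [hzp]
    refine ⟨γ x₀, ?_⟩
    rw [hδ, hy, hδ, map_mul, map_inv]
  have hfo : IsOfFinOrder y := isOfFinOrder_of_finite y
  rw [← hfo.mem_powers_iff_mem_zpowers, Submonoid.mem_powers_iff] at hγy
  obtain ⟨i, hi⟩ := hγy
  have hγy' : γ y = y := fix_of_prime_order γ hγ hyord hi.symm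
  have hyL : y ∈ L := by
    rw [← hker, MonoidHom.mem_ker, hδ, hγy', inv_mul_cancel]
  intro x
  have : δ x ∈ δ.range := ⟨x, rfl⟩
  rw [← hzp] at this
  exact (Subgroup.zpowers_le.2 hyL) this

end Cfsg.Agent.Lib.Helper27.EssAut
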