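import Mathlib
import Cfsg.Agent.Lib.Helper20.Omega

set_option autoImplicit false

namespace Cfsg.Agent.Lib.Helper27

open Cfsg.Agent.Lib.Helper20.Omega

variable {P : Type*} [Group P]

/-- The small-order lemma for automorphisms: an automorphism of order prime to `p` of a finite
`p`-group that fixes every element `y` of an invariant subgroup `Y` with `y ^ p = 1` (`y ^ 4 = 1`
for `p = 2`) fixes every element of `Y`. -/
theorem omega_aut [Finite P] {p : ℕ} [Fact p.Prime] (hP : IsPGroup p P) (α : MulAut P)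
    (hα : (orderOf α).Coprime p) (Y : Subgroup P) (hY : ∀ y ∈ Y, α y ∈ Y)
    (hfix : ∀ y ∈ Y, y ^ expo p = 1 → α y = y) : ∀ y ∈ Y, α y = y := by
  have hfin : Finite (P ⋊[MonoidHom.id (MulAut P)] MulAut P) :=
    Finite.of_equiv _ (SemidirectProduct.equivProd (φ := MonoidHom.id (MulAut P))).symm
  obtain ⟨a, ha⟩ : ∃ a : P ⋊[MonoidHom.id (MulAut P)] MulAut P, a = SemidirectProduct.inr α :=
    ⟨_, rfl⟩
  have hconj : ∀ y : P, a * SemidirectProduct.inl y * a⁻¹ =
      (SemidirectProduct.inl (α y) : P ⋊[MonoidHom.id (MulAut P)] MulAut P) := by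
    intro y
    rw [ha, ← map_inv]
    exact (SemidirectProduct.inl_aut (φ := MonoidHom.id (MulAut P)) α y).symm
  have hord : (orderOf a).Coprime p := by
    rw [ha, orderOf_injective (SemidirectProduct.inr : MulAut P →* P ⋊[MonoidHom.id (MulAut P)] MulAut P)
      SemidirectProduct.inr_injective α]
    exact hα
  have hYp : IsPGroup p (Y.map (SemidirectProduct.inl : P →* P ⋊[MonoidHom.id (MulAut P)] MulAut P)) :=
    (hP.to_subgroup Y).map _
  have hnorm : a ∈ Subgroup.normalizer
      ((Y.map (SemidirectProduct.inl : P →* P ⋊[MonoidHom.id (MulAut P)] MulAut P) :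
        Subgroup (P ⋊[MonoidHom.id (MulAut P)] MulAut P)) : Set (P ⋊[MonoidHom.id (MulAut P)] MulAut P)) := by
    have key : ∀ h ∈ Y.map (SemidirectProduct.inl : P →* P ⋊[MonoidHom.id (MulAut P)] MulAut P),
        a * h * a⁻¹ ∈ Y.map (SemidirectProduct.inl : P →* P ⋊[MonoidHom.id (MulAut P)] MulAut P) := by
      rintro _ ⟨y, hy, rfl⟩
      rw [hconj]
      exact ⟨α y, hY y hy, rfl⟩
    rw [Subgroup.mem_normalizer_iff]
    intro h
    refine ⟨key h, fun hh => ?_⟩
    -- injective self-map of a finite set is surjective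
    have hinj : Function.Injective (fun z : Y.map (SemidirectProduct.inl :
        P →* P ⋊[MonoidHom.id (MulAut P)] MulAut P) =>
        (⟨a * z * a⁻¹, key z z.2⟩ : Y.map (SemidirectProduct.inl :
          P →* P ⋊[MonoidHom.id (MulAut P)] MulAut P))) := by
      intro z w hzw
      have h1 : a * (z : P ⋊[MonoidHom.id (MulAut P)] MulAut P) * a⁻¹ = a * w * a⁻¹ :=
        congrArg Subtype.val hzw
      exact Subtype.ext (mul_left_cancel (mul_right_cancel h1))
    obtain ⟨z, hz⟩ := (Finite.injective_iff_surjective.mp hinj) ⟨a * h * a⁻¹, hh⟩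
    have h1 : a * (z : P ⋊[MonoidHom.id (MulAut P)] MulAut P) * a⁻¹ = a * h * a⁻¹ :=
      congrArg Subtype.val hz
    have h2 : (z : P ⋊[MonoidHom.id (MulAut P)] MulAut P) = h :=
      mul_left_cancel (mul_right_cancel h1)
    rw [← h2]
    exact z.2
  have hmain := centralizes_of_omega a hord _ _ rfl hYp hnorm (by
    rintro _ ⟨y, hy, rfl⟩ hpow
    have h1 : y ^ expo p = 1 := by
      apply SemidirectProduct.inl_injective (φ := MonoidHom.id (MulAut P))
      rw [map_pow, map_one]
      exact hpow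
    have h2 := hconj y
    rw [hfix y hy h1] at h2
    calc a * SemidirectProduct.inl y = (a * SemidirectProduct.inl y * a⁻¹) * a := by group
      _ = SemidirectProduct.inl y * a := by rw [h2])
  intro y hy
  have h1 := hmain _ ⟨y, hy, rfl⟩
  have h2 := hconj y
  rw [h1] at h2
  apply SemidirectProduct.inl_injective (φ := MonoidHom.id (MulAut P))
  rw [← h2]
  group

/-- Coprime action: an automorphism of order prime to `p` fixing `x⁻¹ α(x)` fixes `x`. -/
theorem fix_of_fix_comm [Finite P] {p : ℕ} [Fact p.Prime] (hP : IsPGroup p P) (α : MulAut P)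
    (hα : (orderOf α).Coprime p) (x : P) (h : α (x⁻¹ * α x) = x⁻¹ * α x) : α x = x := by
  have hpow : ∀ j : ℕ, (α ^ j) x = x * (x⁻¹ * α x) ^ j := by
    intro j
    induction j with
    | zero => simp
    | succ j ih =>
      rw [pow_succ', MulAut.mul_apply, ih, map_mul, map_pow, h, pow_succ', ← mul_assoc,
        mul_inv_cancel_left]
  have h1 := hpow (orderOf α)
  rw [pow_orderOf_eq_one, MulAut.one_apply] at h1
  have h2 : (x⁻¹ * α x) ^ orderOf α = 1 := by
    have h3 : x * 1 = x * (x⁻¹ * α x) ^ orderOf α := by rw [mul_one]; exact h1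
    exact (mul_left_cancel h3).symm
  obtain ⟨k, hk⟩ := hP (x⁻¹ * α x)
  have h4 : orderOf (x⁻¹ * α x) ∣ orderOf α := orderOf_dvd_of_pow_eq_one h2
  have h5 : orderOf (x⁻¹ * α x) ∣ p ^ k := orderOf_dvd_of_pow_eq_one hk
  have h6 : orderOf (x⁻¹ * α x) = 1 :=
    Nat.eq_one_of_dvd_coprimes (Nat.Coprime.pow_right k hα) h4 h5
  have h7 : x⁻¹ * α x = 1 := orderOf_eq_one_iff.mp h6
  exact (inv_mul_eq_one.mp h7).symm

/-- A finite group of automorphisms whose elements of order prime to `p` are trivial is a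
`p`-group. -/
theorem isPGroup_of_coprime_trivial [Finite P] {p : ℕ} [Fact p.Prime] (A : Subgroup (MulAut P))
    (h : ∀ α ∈ A, (orderOf α).Coprime p → α = 1) : IsPGroup p A := by
  intro a
  have hpos : 0 < orderOf (a : MulAut P) := orderOf_pos _
  obtain ⟨k, m, hm, hkm⟩ := Nat.exists_eq_pow_mul_and_not_dvd hpos.ne' p
    (Fact.out : p.Prime).ne_one
  refine ⟨k, ?_⟩
  have h1 : ((a : MulAut P) ^ p ^ k) ^ m = 1 := by
    rw [← pow_mul, ← hkm, pow_orderOf_eq_one]
  have h2 : orderOf ((a : MulAut P) ^ p ^ k) ∣ m := orderOf_dvd_of_pow_eq_one h1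
  have h3 : m.Coprime p := ((Fact.out : p.Prime).coprime_iff_not_dvd.mpr hm).symm
  have h4 := h _ (A.pow_mem a.2 _) (Nat.Coprime.coprime_dvd_left h2 h3)
  apply Subtype.ext
  rw [Subgroup.coe_pow, h4]
  rfl

end Cfsg.Agent.Lib.Helper27
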