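import Mathlib
import Cfsg.Agent.Lib.Helper27.EssAut
import Cfsg.Agent.S5185
import Cfsg.Agent.S4207
import Cfsg.Agent.S4218
import Cfsg.Agent.Lib.Helper20.ESpecial

set_option autoImplicit false
open Cfsg

namespace Cfsg.Agent.Lib.Helper27.EssQuot

open Cfsg.FusionSystem Cfsg.Agent.Lib.Helper26 Cfsg.Agent.Lib.Helper27.EssAut

universe u

section Quot

variable {H : Type*} [Group H]

/-- Automorphisms act on the quotient by a characteristic subgroup. -/
noncomputable def autQuot (N : Subgroup H) [hN : N.Characteristic] : MulAut H →* MulAut (H ⧸ N) where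
  toFun α := QuotientGroup.congr N N α (Subgroup.characteristic_iff_map_eq.1 hN α)
  map_one' := by
    ext x
    induction x using QuotientGroup.induction_on with
    | H x => rfl
  map_mul' := by
    intro α β
    ext x
    induction x using QuotientGroup.induction_on with
    | H x => rfl

theorem autQuot_mk (N : Subgroup H) [N.Characteristic] (α : MulAut H) (x : H) :
    autQuot N α (x : H ⧸ N) = ((α x : H) : H ⧸ N) := rfl

theorem autQuot_eq_one_iff (N : Subgroup H) [N.Characteristic] (α : MulAut H) :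
    autQuot N α = 1 ↔ ∀ x : H, α x * x⁻¹ ∈ N := by
  constructor
  · intro h x
    have h1 : autQuot N α (x : H ⧸ N) = (x : H ⧸ N) := by rw [h]; rfl
    rw [autQuot_mk, QuotientGroup.eq_iff_div_mem, div_eq_mul_inv] at h1
    exact h1
  · intro h
    ext y
    induction y using QuotientGroup.induction_on with
    | H x =>
      rw [autQuot_mk, MulAut.one_apply, QuotientGroup.eq_iff_div_mem, div_eq_mul_inv]
      exact h x

/-- coordinates in a group of order `p²` and exponent `p` -/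
theorem gen_pair {Q : Type*} [Group Q] [Finite Q] {p : ℕ} [Fact p.Prime]
    (hcomm : ∀ x y : Q, x * y = y * x) (hcard : Nat.card Q = p ^ 2) (hexp : ∀ x : Q, x ^ p = 1)
    {e1 e2 : Q} (he1 : e1 ≠ 1) (he2 : e2 ∉ Subgroup.zpowers e1) :
    ∀ x : Q, ∃ i j : ℕ, x = e1 ^ i * e2 ^ j := by
  have hp : p.Prime := Fact.out
  let T0 : Subgroup Q :=
    { carrier := {x | ∃ i j : ℕ, x = e1 ^ i * e2 ^ j}
      one_mem' := ⟨0, 0, by simp⟩
      mul_mem' := by
        rintro _ _ ⟨i, j, rfl⟩ ⟨i', j', rfl⟩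
        refine ⟨i + i', j + j', ?_⟩
        rw [pow_add, pow_add]
        calc e1 ^ i * e2 ^ j * (e1 ^ i' * e2 ^ j') = e1 ^ i * (e2 ^ j * e1 ^ i') * e2 ^ j' := by
              simp only [mul_assoc]
          _ = e1 ^ i * (e1 ^ i' * e2 ^ j) * e2 ^ j' := by rw [hcomm (e2 ^ j) (e1 ^ i')]
          _ = e1 ^ i * e1 ^ i' * (e2 ^ j * e2 ^ j') := by simp only [mul_assoc]
      inv_mem' := by
        rintro _ ⟨i, j, rfl⟩
        refine ⟨i * (p - 1), j * (p - 1), ?_⟩
        have h1 : (e1 ^ i * e2 ^ j) ^ (p - 1) = e1 ^ (i * (p - 1)) * e2 ^ (j * (p - 1)) := by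
          rw [(show Commute (e1 ^ i) (e2 ^ j) from hcomm _ _).mul_pow, ← pow_mul, ← pow_mul]
        rw [← h1, inv_eq_iff_mul_eq_one, ← pow_succ', Nat.sub_add_cancel hp.one_le]
        exact hexp _ }
  have hT0 : ∀ x : Q, x ∈ T0 ↔ ∃ i j : ℕ, x = e1 ^ i * e2 ^ j := fun _ => Iff.rfl
  have hle : Subgroup.zpowers e1 ≤ T0 := by
    rw [Subgroup.zpowers_le]
    exact (hT0 _).2 ⟨1, 0, by simp⟩
  have he2T : e2 ∈ T0 := (hT0 _).2 ⟨0, 1, by simp⟩
  have hzc : Nat.card (Subgroup.zpowers e1) = p := by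
    rw [Nat.card_zpowers, orderOf_eq_prime (hexp e1) he1]
  have hdvd : Nat.card T0 ∣ p ^ 2 := hcard ▸ Subgroup.card_subgroup_dvd_card _
  obtain ⟨j, hj, hjc⟩ := (Nat.dvd_prime_pow hp).1 hdvd
  have hLle : p ≤ Nat.card T0 := hzc ▸ Subgroup.card_le_of_le hle
  have hj2 : j = 2 := by
    interval_cases j
    · rw [hjc, pow_zero] at hLle
      have := hp.one_lt
      omega
    · exfalso
      have heq : Subgroup.zpowers e1 = T0 :=
        Subgroup.eq_of_le_of_card_ge hle (by rw [hjc, pow_one, hzc])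
      exact he2 (heq ▸ he2T)
    · rfl
  have htop : T0 = ⊤ := Subgroup.eq_top_of_card_eq _ (by rw [hjc, hj2, hcard])
  intro x
  exact (hT0 x).1 (htop ▸ Subgroup.mem_top x)

/-- an element of order `p` is a power of any of its nontrivial powers -/
theorem mem_of_pow_mem {Q : Type*} [Group Q] {p : ℕ} [Fact p.Prime] {x : Q} (hx : x ^ p = 1)
    {j : ℕ} (hj : ¬ p ∣ j) (U : Subgroup Q) (h : x ^ j ∈ U) : x ∈ U := by
  have hp : p.Prime := Fact.out
  have hcop : Nat.Coprime j p := (Nat.Coprime.symm ((Nat.Prime.coprime_iff_not_dvd hp).2 hj))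
  obtain ⟨m, -, hm⟩ := Nat.exists_mul_mod_eq_one_of_coprime hcop hp.one_lt
  have h1 : (x ^ j) ^ m = x := by
    rw [← pow_mul]
    conv_rhs => rw [← pow_one x]
    rw [← Nat.mod_add_div (j * m) p, hm, pow_add, pow_mul, hx, one_pow, mul_one]
  rw [← h1]
  exact U.pow_mem h m

/-- irreducibility of the action generated by two opposite transvections on the quotient -/
theorem irred_of_pair [Finite H] {p : ℕ} [Fact p.Prime] (N : Subgroup H) [N.Characteristic]
    (hcomm : ∀ x y : H ⧸ N, x * y = y * x) (hcard : Nat.card (H ⧸ N) = p ^ 2)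
    (hexp : ∀ x : H ⧸ N, x ^ p = 1) {e1 e2 : H ⧸ N} (he1 : e1 ≠ 1)
    (he2 : e2 ∉ Subgroup.zpowers e1) {α β : MulAut H} (hα1 : autQuot N α e1 = e1)
    (hα2 : autQuot N α e2 = e2 * e1) (hβ1 : autQuot N β e1 = e1 * e2)
    (U : Subgroup H) (hNU : N ≤ U) (hUα : ∀ x ∈ U, α x ∈ U) (hUβ : ∀ x ∈ U, β x ∈ U) :
    U = N ∨ U = ⊤ := by
  by_cases hUN : U ≤ N
  · left
    exact le_antisymm hUN hNU
  right
  obtain ⟨u, huU, huN⟩ := SetLike.not_le_iff_exists.1 hUN
  obtain ⟨Ub, hUb⟩ : ∃ Ub : Subgroup (H ⧸ N), Ub = U.map (QuotientGroup.mk' N) := ⟨_, rfl⟩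
  have hmemUb : ∀ x : H, (x : H ⧸ N) ∈ Ub ↔ x ∈ U := by
    intro x
    rw [hUb]
    constructor
    · rintro ⟨y, hy, hyx⟩
      have h1 : (y : H ⧸ N) = (x : H ⧸ N) := hyx
      rw [QuotientGroup.eq] at h1
      have : x = y * (y⁻¹ * x) := by group
      rw [this]
      exact U.mul_mem hy (hNU h1)
    · intro hx
      exact ⟨x, hx, rfl⟩
  have hUbα : ∀ y ∈ Ub, autQuot N α y ∈ Ub := by
    intro y hy
    induction y using QuotientGroup.induction_on with
    | H x =>
      rw [autQuot_mk, hmemUb]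
      exact hUα x ((hmemUb x).1 hy)
  have hUbβ : ∀ y ∈ Ub, autQuot N β y ∈ Ub := by
    intro y hy
    induction y using QuotientGroup.induction_on with
    | H x =>
      rw [autQuot_mk, hmemUb]
      exact hUβ x ((hmemUb x).1 hy)
  have hub : (u : H ⧸ N) ∈ Ub := (hmemUb u).2 huU
  have hub1 : (u : H ⧸ N) ≠ 1 := fun h => huN ((QuotientGroup.eq_one_iff u).1 h)
  obtain ⟨i, j, hij⟩ := gen_pair hcomm hcard hexp he1 he2 (u : H ⧸ N)
  have he1U : e1 ∈ Ub := by
    by_cases hj : p ∣ j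
    · have h2 : e2 ^ j = 1 := by
        obtain ⟨k, rfl⟩ := hj
        rw [pow_mul, hexp, one_pow]
      rw [h2, mul_one] at hij
      have hi : ¬ p ∣ i := by
        rintro ⟨k, rfl⟩
        apply hub1
        rw [hij, pow_mul, hexp, one_pow]
      exact mem_of_pow_mem (hexp e1) hi Ub (hij ▸ hub)
    · have h3 : autQuot N α (u : H ⧸ N) = (u : H ⧸ N) * e1 ^ j := by
        rw [hij, map_mul, map_pow, map_pow, hα1, hα2,
          (show Commute e2 e1 from hcomm _ _).mul_pow, mul_assoc]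
      have h4 : e1 ^ j ∈ Ub := by
        have h5 : e1 ^ j = (u : H ⧸ N)⁻¹ * autQuot N α (u : H ⧸ N) := by
          rw [h3, inv_mul_cancel_left]
        rw [h5]
        exact Ub.mul_mem (Ub.inv_mem hub) (hUbα _ hub)
      exact mem_of_pow_mem (hexp e1) hj Ub h4
  have he2U : e2 ∈ Ub := by
    have h5 : e2 = e1⁻¹ * autQuot N β e1 := by rw [hβ1, inv_mul_cancel_left]
    rw [h5]
    exact Ub.mul_mem (Ub.inv_mem he1U) (hUbβ _ he1U)
  rw [eq_top_iff]
  intro x _
  rw [← hmemUb]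
  obtain ⟨i', j', hx⟩ := gen_pair hcomm hcard hexp he1 he2 (x : H ⧸ N)
  rw [hx]
  exact Ub.mul_mem (Ub.pow_mem he1U _) (Ub.pow_mem he2U _)

end Quot

/-- normal `p`-subgroups of the automizer of an essential subgroup consist of inner
automorphisms -/
theorem ess_radical {Ω : Type u} [Group Ω] {S : Subgroup Ω} [Finite S] (p : ℕ)
    [Fact p.Prime] (F : Cfsg.FusionSystem S) {H : Subgroup Ω} (hH : F.IsEssential p H)
    (N : Subgroup (F.autGroup H)) (hNn : N.Normal) (hNp : IsPGroup p N) :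
    N ≤ (Inn H).subgroupOf (F.autGroup H) := by
  obtain ⟨hc, hfn, hN, E, hE⟩ := hH
  have hfin : Finite H := finite_of_le hc.1
  have hfinA : Finite (MulAut H) := inferInstance
  have hcore : pCore p (F.autGroup H ⧸ (Inn H).subgroupOf (F.autGroup H)) = ⊥ :=
    pCore_eq_bot_of_stronglyPEmbedded hE
  have himg : N.map (QuotientGroup.mk' ((Inn H).subgroupOf (F.autGroup H))) ≤
      pCore p (F.autGroup H ⧸ (Inn H).subgroupOf (F.autGroup H)) :=
    Cfsg.Agent.Lib.Lead.Cores.le_pCore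
      (hNn.map _ (QuotientGroup.mk'_surjective _)) (hNp.map _)
  rw [hcore] at himg
  intro r hr
  have h1 := himg (Subgroup.mem_map_of_mem _ hr)
  rwa [Subgroup.mem_bot, QuotientGroup.mk'_apply, QuotientGroup.eq_one_iff] at h1

/-- The image of the automizer of an essential subgroup `H` on `H/Φ(H)` has order divisible by
`p` and no normal Sylow `p`-subgroup; its kernel consists of inner automorphisms. -/
theorem ess_quot {Ω : Type u} [Group Ω] {S : Subgroup Ω} [Finite S] (p : ℕ)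
    [Fact p.Prime] (hS : IsPGroup p S) (F : Cfsg.FusionSystem S) {H : Subgroup Ω}
    (hH : F.IsEssential p H) :
    p ∣ Nat.card ((F.autGroup H).map (autQuot (frattini H))) ∧
    (∀ R' : Sylow p ((F.autGroup H).map (autQuot (frattini H))),
      ¬ (R' : Subgroup ((F.autGroup H).map (autQuot (frattini H)))).Normal) ∧
    ∀ γ ∈ F.autGroup H, autQuot (frattini H) γ = 1 → γ ∈ Inn H := by
  have hp : p.Prime := Fact.out
  have hHS : H ≤ S := hH.1.1
  have hfin : Finite H := finite_of_le hHS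
  have hHp : IsPGroup p H := hS.to_le hHS
  obtain ⟨A, hA⟩ : ∃ A : Subgroup (MulAut H), A = F.autGroup H := ⟨_, rfl⟩
  obtain ⟨ψ, hψ⟩ : ∃ ψ : MulAut H →* MulAut (H ⧸ frattini H), ψ = autQuot (frattini H) :=
    ⟨_, rfl⟩
  rw [← hA, ← hψ]
  obtain ⟨φ, hφ⟩ : ∃ φ : A →* A.map ψ, ∀ a : A, ((φ a : A.map ψ) : MulAut (H ⧸ frattini H)) =
      ψ (a : MulAut H) :=
    ⟨(ψ.comp A.subtype).codRestrict (A.map ψ) (fun a => Subgroup.mem_map_of_mem ψ a.2),
      fun _ => rfl⟩
  have hφsurj : Function.Surjective φ := by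
    rintro ⟨y, a, ha, rfl⟩
    exact ⟨⟨a, ha⟩, Subtype.ext (hφ _)⟩
  -- the kernel is a p-group
  have hKmem : ∀ a : A, a ∈ φ.ker ↔ ∀ x : H, (a : MulAut H) x * x⁻¹ ∈ frattini H := by
    intro a
    rw [MonoidHom.mem_ker, ← autQuot_eq_one_iff, ← hψ, ← hφ]
    constructor
    · intro h
      rw [h]
      rfl
    · intro h
      exact Subtype.ext h
  have hKp : IsPGroup p φ.ker := by
    obtain ⟨n, hn⟩ := IsPGroup.iff_card.1 hHp
    obtain ⟨r, hr⟩ := hHp.index (frattini H)
    have h1 := Cfsg.Agent.S4207.result hn hr (φ.ker.map A.subtype) (by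
      rintro _ ⟨a, ha, rfl⟩ x
      exact (hKmem a).1 ha x)
    have h2 : Nat.card (φ.ker.map A.subtype) = Nat.card φ.ker :=
      Nat.card_congr (Subgroup.equivMapOfInjective _ _ A.subtype_injective).toEquiv.symm
    rw [h2] at h1
    obtain ⟨k, -, hk⟩ := (Nat.dvd_prime_pow hp).1 h1
    exact IsPGroup.of_card hk
  have hKinn : φ.ker ≤ (Inn H).subgroupOf A := by
    have := ess_radical p F hH (hA ▸ φ.ker) (by subst hA; infer_instance) (by subst hA; exact hKp)
    subst hA
    exact this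
  refine ⟨?_, ?_, ?_⟩
  · have h1 : p ∣ ((Inn H).subgroupOf A).index := by
      subst hA
      obtain ⟨-, -, hN, E, hE⟩ := hH
      exact hE.1
    have h2 : φ.ker.index = Nat.card (A.map ψ) := by
      rw [Subgroup.index_ker, MonoidHom.range_eq_top.2 hφsurj]
      exact Nat.card_congr Subgroup.topEquiv.toEquiv
    rw [← h2]
    exact dvd_trans h1 (Subgroup.index_dvd_of_le hKinn)
  · intro R' hR'n
    have hRp : IsPGroup p ((R' : Subgroup (A.map ψ)).comap φ) := by
      rintro ⟨r, hr⟩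
      obtain ⟨m, hm⟩ := R'.isPGroup' ⟨φ r, hr⟩
      have hm' : φ (r ^ p ^ m) = 1 := by
        rw [map_pow]
        exact congrArg Subtype.val hm
      obtain ⟨l, hl⟩ := hKp ⟨r ^ p ^ m, hm'⟩
      refine ⟨m + l, Subtype.ext ?_⟩
      have hl' : (r ^ p ^ m) ^ p ^ l = 1 := congrArg Subtype.val hl
      rw [Subgroup.coe_pow, Subgroup.coe_one, pow_add, pow_mul]
      exact hl'
    have hRi : ¬ p ∣ ((R' : Subgroup (A.map ψ)).comap φ).index := by
      rw [Subgroup.index_comap_of_surjective _ hφsurj]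
      exact R'.not_dvd_index
    have hRn : ((R' : Subgroup (A.map ψ)).comap φ).Normal := hR'n.comap φ
    subst hA
    apply ess_no_normal_sylow p F hH (hRp.toSylow hRi)
    rw [IsPGroup.toSylow_coe]
    exact hRn
  · intro γ hγ hγ1
    have : (⟨γ, hγ⟩ : A) ∈ φ.ker := by
      rw [MonoidHom.mem_ker]
      apply Subtype.ext
      rw [hφ]
      exact hγ1
    exact Subgroup.mem_subgroupOf.1 (hKinn this)

/-- The pair of opposite transvections on `H/Φ(H)` for an essential subgroup with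
`|H : Φ(H)| = p²`. -/
theorem ess_quot_pair {Ω : Type u} [Group Ω] {S : Subgroup Ω} [Finite S] (p : ℕ)
    [Fact p.Prime] (hS : IsPGroup p S) (F : Cfsg.FusionSystem S) {H : Subgroup Ω}
    (hH : F.IsEssential p H) (hidx : (frattini H).index = p ^ 2) :
    (∀ x y : H ⧸ frattini H, x * y = y * x) ∧ Nat.card (H ⧸ frattini H) = p ^ 2 ∧
    (∀ x : H ⧸ frattini H, x ^ p = 1) ∧
    ∃ e1 e2 : H ⧸ frattini H, ∃ α ∈ F.autGroup H, ∃ β ∈ F.autGroup H,
      e1 ≠ 1 ∧ e2 ∉ Subgroup.zpowers e1 ∧ autQuot (frattini H) α e1 = e1 ∧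
      autQuot (frattini H) α e2 = e2 * e1 ∧ autQuot (frattini H) β e2 = e2 ∧
      autQuot (frattini H) β e1 = e1 * e2 := by
  have hHS : H ≤ S := hH.1.1
  have hfin : Finite H := finite_of_le hHS
  have hHp : IsPGroup p H := hS.to_le hHS
  have hcomm : ∀ x y : H ⧸ frattini H, x * y = y * x := by
    intro x y
    induction x using QuotientGroup.induction_on with
    | H x =>
      induction y using QuotientGroup.induction_on with
      | H y =>
        rw [← QuotientGroup.mk_mul, ← QuotientGroup.mk_mul, QuotientGroup.eq_iff_div_mem,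
          div_eq_mul_inv, mul_inv_rev]
        have := Cfsg.Agent.S4218.comm_mem_frattini hHp x y
        have e : x * y * (x⁻¹ * y⁻¹) = x * y * x⁻¹ * y⁻¹ := by group
        rw [e]
        exact this
  have hcard : Nat.card (H ⧸ frattini H) = p ^ 2 := hidx
  have hexp : ∀ x : H ⧸ frattini H, x ^ p = 1 := by
    intro x
    induction x using QuotientGroup.induction_on with
    | H x =>
      rw [← QuotientGroup.mk_pow, QuotientGroup.eq_one_iff]
      exact Cfsg.Agent.Lib.Helper20.ESpecial.pow_mem_frattini hHp x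
  refine ⟨hcomm, hcard, hexp, ?_⟩
  obtain ⟨h1, h2, -⟩ := ess_quot p hS F hH
  obtain ⟨e1, e2, α', hα', β', hβ', he1, he2, ha1, ha2, hb2, hb1⟩ :=
    Cfsg.Agent.S5185.exists_pair hcomm hcard hexp _ h1 h2
  obtain ⟨α, hα, rfl⟩ := hα'
  obtain ⟨β, hβ, rfl⟩ := hβ'
  exact ⟨e1, e2, α, hα, β, hβ, he1, he2, ha1, ha2, hb2, hb1⟩

end Cfsg.Agent.Lib.Helper27.EssQuot
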