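import Mathlib
import Cfsg.Agent.Lib.Helper27.OmegaAut
import Cfsg.Agent.Lib.Helper27.EssAut
import Cfsg.Agent.S5187

set_option autoImplicit false

namespace Cfsg.Agent.Lib.Helper27.Transv

open Cfsg.Agent.Lib.Helper27 Cfsg.Agent.Lib.Helper27.EssAut

variable {H : Type*} [Group H]

/-- The stabilizer of the chain `H ≥ W ≥ Z ≥ 1` in the automorphism group. -/
def stab3 (W Z : Subgroup H) (hZW : Z ≤ W) : Subgroup (MulAut H) where
  carrier := {k | (∀ x, x⁻¹ * k x ∈ W) ∧ (∀ w ∈ W, w⁻¹ * k w ∈ Z) ∧ ∀ z ∈ Z, k z = z}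
  one_mem' := by
    refine ⟨fun x => ?_, fun w _ => ?_, fun z _ => rfl⟩
    · rw [MulAut.one_apply, inv_mul_cancel]
      exact W.one_mem
    · rw [MulAut.one_apply, inv_mul_cancel]
      exact Z.one_mem
  mul_mem' := by
    rintro k₁ k₂ ⟨h1, h2, h3⟩ ⟨h1', h2', h3'⟩
    refine ⟨fun x => ?_, fun w hw => ?_, fun z hz => ?_⟩
    · have e : x⁻¹ * (k₁ * k₂) x = (x⁻¹ * k₂ x) * ((k₂ x)⁻¹ * k₁ (k₂ x)) := by
        rw [MulAut.mul_apply]
        group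
      rw [e]
      exact W.mul_mem (h1' x) (h1 _)
    · have hk2w : k₂ w ∈ W := by
        have e : k₂ w = w * (w⁻¹ * k₂ w) := by group
        rw [e]
        exact W.mul_mem hw (hZW (h2' w hw))
      have e : w⁻¹ * (k₁ * k₂) w = (w⁻¹ * k₂ w) * ((k₂ w)⁻¹ * k₁ (k₂ w)) := by
        rw [MulAut.mul_apply]
        group
      rw [e]
      exact Z.mul_mem (h2' w hw) (h2 _ hk2w)
    · rw [MulAut.mul_apply, h3' z hz, h3 z hz]
  inv_mem' := by
    rintro k ⟨h1, h2, h3⟩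
    have hW : ∀ y, k y ∈ W → y ∈ W := by
      intro y hy
      have e : y = k y * (y⁻¹ * k y)⁻¹ := by group
      rw [e]
      exact W.mul_mem hy (W.inv_mem (h1 y))
    have hZ : ∀ y, k y ∈ Z → y ∈ Z := by
      intro y hy
      have hyW := hW y (hZW hy)
      have e : y = k y * (y⁻¹ * k y)⁻¹ := by group
      rw [e]
      exact Z.mul_mem hy (Z.inv_mem (h2 y hyW))
    refine ⟨fun x => ?_, fun w hw => ?_, fun z hz => ?_⟩
    · have e : x⁻¹ * k⁻¹ x = ((k⁻¹ x)⁻¹ * k (k⁻¹ x))⁻¹ := by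
        rw [MulAut.apply_inv_self]
        group
      rw [e]
      exact W.inv_mem (h1 _)
    · have hy : k⁻¹ w ∈ W := hW _ (by rw [MulAut.apply_inv_self]; exact hw)
      have e : w⁻¹ * k⁻¹ w = ((k⁻¹ w)⁻¹ * k (k⁻¹ w))⁻¹ := by
        rw [MulAut.apply_inv_self]
        group
      rw [e]
      exact Z.inv_mem (h2 _ hy)
    · have hy : k⁻¹ z ∈ Z := hZ _ (by rw [MulAut.apply_inv_self]; exact hz)
      have e := h3 _ hy
      rw [MulAut.apply_inv_self] at e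
      exact e.symm

theorem stab3_isPGroup [Finite H] {p : ℕ} [Fact p.Prime] (hH : IsPGroup p H) (W Z : Subgroup H)
    (hZW : Z ≤ W) : IsPGroup p (stab3 W Z hZW) := by
  apply isPGroup_of_coprime_trivial
  rintro α ⟨h1, h2, h3⟩ hcop
  have hWfix : ∀ w ∈ W, α w = w := fun w hw =>
    fix_of_fix_comm hH α hcop w (h3 _ (h2 w hw))
  ext x
  exact fix_of_fix_comm hH α hcop x (hWfix _ (h1 x))

/-- Two automorphisms stabilizing a common chain generate a `p`-group. -/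
theorem pair_isPGroup [Finite H] {p : ℕ} [Fact p.Prime] (hH : IsPGroup p H) (k₁ k₂ : MulAut H)
    (Y₁ Y₂ : Subgroup H) (h1 : ∀ x, x⁻¹ * k₁ x ∈ Y₁) (h2 : ∀ x, x⁻¹ * k₂ x ∈ Y₂)
    (h11 : ∀ y ∈ Y₁, k₁ y = y) (h12 : ∀ y ∈ Y₂, k₁ y = y) (h22 : ∀ y ∈ Y₂, k₂ y = y) :
    IsPGroup p (Subgroup.closure {k₁, k₂}) := by
  have hle : Subgroup.closure {k₁, k₂} ≤ stab3 (Y₁ ⊔ Y₂) Y₂ le_sup_right := by
    rw [Subgroup.closure_le]
    rintro k (rfl | rfl)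
    · refine ⟨fun x => Subgroup.mem_sup_left (h1 x), fun w hw => ?_, h12⟩
      have hfix : Y₁ ⊔ Y₂ ≤ (k.toMonoidHom).eqLocus (MonoidHom.id H) :=
        sup_le (fun y hy => h11 y hy) (fun y hy => h12 y hy)
      have e : k w = w := hfix hw
      rw [e, inv_mul_cancel]
      exact Y₂.one_mem
    · exact ⟨fun x => Subgroup.mem_sup_right (h2 x), fun w _ => h2 w, h22⟩
  exact (stab3_isPGroup hH _ _ _).to_le hle

/-- The common fixed points of all conjugates of `u` under `A`. -/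
def Zc (A : Subgroup (MulAut H)) (u : MulAut H) : Subgroup H where
  carrier := {x | ∀ g ∈ A, u (g x) = g x}
  one_mem' := fun g _ => by rw [map_one, map_one]
  mul_mem' := fun {x y} hx hy g hg => by rw [map_mul, map_mul, hx g hg, hy g hg]
  inv_mem' := fun {x} hx g hg => by rw [map_inv, map_inv, hx g hg]

/-- The subgroup generated by the commutators of all conjugates of `u` under `A`. -/
def Wc (A : Subgroup (MulAut H)) (u : MulAut H) : Subgroup H :=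
  Subgroup.closure {y | ∃ g ∈ A, ∃ x : H, y = g (x⁻¹ * u x)}

theorem Zc_invariant (A : Subgroup (MulAut H)) (u : MulAut H) {g : MulAut H} (hg : g ∈ A) {x : H}
    (hx : x ∈ Zc A u) : g x ∈ Zc A u := by
  intro g' hg'
  have e := hx (g' * g) (A.mul_mem hg' hg)
  rw [MulAut.mul_apply] at e
  exact e

theorem Wc_invariant (A : Subgroup (MulAut H)) (u : MulAut H) {g : MulAut H} (hg : g ∈ A) {x : H}
    (hx : x ∈ Wc A u) : g x ∈ Wc A u := by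
  have hle : Wc A u ≤ (Wc A u).comap g.toMonoidHom := by
    unfold Wc
    rw [Subgroup.closure_le]
    rintro y ⟨g', hg', x, rfl⟩
    rw [SetLike.mem_coe, Subgroup.mem_comap]
    apply Subgroup.subset_closure
    exact ⟨g * g', A.mul_mem hg hg', x, rfl⟩
  exact hle hx

theorem Zc_fix (A : Subgroup (MulAut H)) (u : MulAut H) {x : H} (hx : x ∈ Zc A u) : u x = x := by
  have e := hx 1 A.one_mem
  rw [MulAut.one_apply] at e
  exact e

theorem comm_mem_Wc (A : Subgroup (MulAut H)) (u : MulAut H) (x : H) : x⁻¹ * u x ∈ Wc A u :=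
  Subgroup.subset_closure ⟨1, A.one_mem, x, rfl⟩


theorem inv_fix (k : MulAut H) {c : H} (h : k c = c) : k⁻¹ c = c := by
  calc k⁻¹ c = k⁻¹ (k c) := by rw [h]
    _ = c := by rw [MulAut.inv_apply_self]

/-- The structure of a faithful module with a non-normal Sylow subgroup of order `p` generated by
a transvection-like automorphism `u` of the finite abelian `p`-group `H`. -/
theorem key [Finite H] {p : ℕ} [Fact p.Prime] (hH : IsPGroup p H)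
    (hcomm : ∀ x y : H, x * y = y * x)
    (A : Subgroup (MulAut H)) (u : MulAut H) (huA : u ∈ A)
    (hT : ∀ x, u (x⁻¹ * u x) = x⁻¹ * u x)
    (C : Subgroup H) (hC : ∀ x, x ∈ C ↔ u x = x) (hCidx : C.index = p)
    (hsyl : ∀ P : Subgroup (MulAut H), P ≤ A → IsPGroup p P → u ∈ P → P ≤ Subgroup.zpowers u)
    (hnn : ∃ g ∈ A, g * u * g⁻¹ ∉ Subgroup.zpowers u) :
    Zc A u ⊓ Wc A u = ⊥ ∧ Zc A u ⊔ Wc A u = ⊤ ∧ Nat.card (Wc A u) = p ^ 2 ∧
    (∀ w ∈ Wc A u, w ^ p = 1) ∧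
    (∀ x, u x = x → ∃ c ∈ Zc A u, ∃ y : H, x = c * (y⁻¹ * u y)) ∧
    (∃ τ ∈ A, τ * u = u * τ ∧ (∀ c ∈ Zc A u, τ c = c) ∧ ∀ w ∈ Wc A u, τ w = w⁻¹) ∧
    (∀ g ∈ A, ∃ h ∈ A, (∀ c ∈ Zc A u, h c = c) ∧
      h⁻¹ * g * u * (h⁻¹ * g)⁻¹ ∈ Subgroup.zpowers u) := by
  classical
  have hp : p.Prime := Fact.out
  have hfinA : Finite (MulAut H) := inferInstance
  have hd_mul : ∀ (k : MulAut H) (x y : H),
      (x * y)⁻¹ * k (x * y) = (x⁻¹ * k x) * (y⁻¹ * k y) := by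
    intro k x y
    rw [map_mul, mul_inv_rev]
    calc y⁻¹ * x⁻¹ * (k x * k y) = y⁻¹ * (x⁻¹ * k x) * k y := by simp only [mul_assoc]
      _ = (x⁻¹ * k x) * y⁻¹ * k y := by rw [hcomm y⁻¹ (x⁻¹ * k x)]
      _ = x⁻¹ * k x * (y⁻¹ * k y) := by simp only [mul_assoc]
  let d : MulAut H → (H →* H) := fun k =>
    { toFun := fun x => x⁻¹ * k x
      map_one' := by rw [map_one, inv_one, one_mul]
      map_mul' := hd_mul k }
  have hd : ∀ k x, d k x = x⁻¹ * k x := fun _ _ => rfl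
  have hker : (d u).ker = C := by
    ext x
    rw [MonoidHom.mem_ker, hd, hC, inv_mul_eq_one]
    exact eq_comm
  have hZu : Nat.card (d u).range = p := by
    rw [← Subgroup.index_ker, hker, hCidx]
  have hpow : ∀ x, (x⁻¹ * u x) ^ p = 1 := by
    intro x
    have e : (⟨d u x, x, rfl⟩ : (d u).range) ^ p = 1 := by
      rw [← hZu]
      exact pow_card_eq_one'
    exact congrArg Subtype.val e
  have hgen : ∀ z : H, z ≠ 1 → z ∈ (d u).range → ∀ x : H, ∃ i : ℕ, x⁻¹ * u x = z ^ i := by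
    intro z hz1 hz x
    have hzp : z ^ p = 1 := by
      obtain ⟨y, rfl⟩ := hz
      exact hpow y
    have hcz : Nat.card (Subgroup.zpowers z) = p := by
      rw [Nat.card_zpowers]
      exact orderOf_eq_prime hzp hz1
    have hle : Subgroup.zpowers z ≤ (d u).range := by
      rw [Subgroup.zpowers_le]
      exact hz
    have heq : Subgroup.zpowers z = (d u).range :=
      Subgroup.eq_of_le_of_card_ge hle (by rw [hcz, hZu])
    have hx : d u x ∈ Subgroup.zpowers z := by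
      rw [heq]
      exact ⟨x, rfl⟩
    rw [← mem_powers_iff_mem_zpowers, Submonoid.mem_powers_iff] at hx
    obtain ⟨i, hi⟩ := hx
    exact ⟨i, hi.symm⟩
  have hconj : ∀ (g : MulAut H) (x : H),
      x⁻¹ * (g * u * g⁻¹) x = g ((g⁻¹ x)⁻¹ * u (g⁻¹ x)) := by
    intro g x
    rw [MulAut.mul_apply, MulAut.mul_apply, map_mul, map_inv, MulAut.apply_inv_self]
  have hTconj : ∀ (g : MulAut H) (x : H),
      (g * u * g⁻¹) (x⁻¹ * (g * u * g⁻¹) x) = x⁻¹ * (g * u * g⁻¹) x := by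
    intro g x
    rw [hconj g x, MulAut.mul_apply, MulAut.mul_apply, MulAut.inv_apply_self, hT]
  have stepA1 : ∀ g ∈ A, (∀ x, u (g (x⁻¹ * u x)) = g (x⁻¹ * u x)) →
      g * u * g⁻¹ ∈ Subgroup.zpowers u := by
    intro g hg hfix
    have hvA : g * u * g⁻¹ ∈ A := A.mul_mem (A.mul_mem hg huA) (A.inv_mem hg)
    have hP := pair_isPGroup hH u (g * u * g⁻¹) (d u).range (d (g * u * g⁻¹)).range
      (fun x => ⟨x, rfl⟩) (fun x => ⟨x, rfl⟩)
      (by rintro y ⟨x, rfl⟩; exact hT x)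
      (by
        rintro y ⟨x, rfl⟩
        rw [hd, hconj]
        exact hfix _)
      (by rintro y ⟨x, rfl⟩; exact hTconj g x)
    have hle : Subgroup.closure {u, g * u * g⁻¹} ≤ A := by
      rw [Subgroup.closure_le]
      rintro k (rfl | rfl)
      · exact huA
      · exact hvA
    exact hsyl _ hle hP (Subgroup.subset_closure (Set.mem_insert _ _))
      (Subgroup.subset_closure (Set.mem_insert_of_mem _ rfl))
  have stepA2 : ∀ g ∈ A, (∀ x, (g * u * g⁻¹) (x⁻¹ * u x) = x⁻¹ * u x) →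
      g * u * g⁻¹ ∈ Subgroup.zpowers u := by
    intro g hg hfix
    have hvA : g * u * g⁻¹ ∈ A := A.mul_mem (A.mul_mem hg huA) (A.inv_mem hg)
    have hP := pair_isPGroup hH (g * u * g⁻¹) u (d (g * u * g⁻¹)).range (d u).range
      (fun x => ⟨x, rfl⟩) (fun x => ⟨x, rfl⟩)
      (by rintro y ⟨x, rfl⟩; exact hTconj g x)
      (by rintro y ⟨x, rfl⟩; exact hfix x)
      (by rintro y ⟨x, rfl⟩; exact hT x)
    have hle : Subgroup.closure {g * u * g⁻¹, u} ≤ A := by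
      rw [Subgroup.closure_le]
      rintro k (rfl | rfl)
      · exact hvA
      · exact huA
    exact hsyl _ hle hP (Subgroup.subset_closure (Set.mem_insert_of_mem _ rfl))
      (Subgroup.subset_closure (Set.mem_insert _ _))
  obtain ⟨g₀, hg₀A, hg₀⟩ := hnn
  obtain ⟨v₀, hv₀⟩ : ∃ v₀ : MulAut H, v₀ = g₀ * u * g₀⁻¹ := ⟨_, rfl⟩
  have hv₀A : v₀ ∈ A := by
    rw [hv₀]
    exact A.mul_mem (A.mul_mem hg₀A huA) (A.inv_mem hg₀A)
  have hB1 : ∃ x₀, u (g₀ (x₀⁻¹ * u x₀)) ≠ g₀ (x₀⁻¹ * u x₀) := by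
    by_contra hcon
    push Not at hcon
    exact hg₀ (stepA1 g₀ hg₀A hcon)
  obtain ⟨x₀, hx₀⟩ := hB1
  obtain ⟨z₂, hz₂⟩ : ∃ z₂ : H, z₂ = g₀ (x₀⁻¹ * u x₀) := ⟨_, rfl⟩
  obtain ⟨z₁, hz₁⟩ : ∃ z₁ : H, z₁ = z₂⁻¹ * u z₂ := ⟨_, rfl⟩
  rw [← hz₂] at hx₀
  have hz₁ne : z₁ ≠ 1 := by
    rw [hz₁]
    intro h
    exact hx₀ (inv_mul_eq_one.mp h).symm
  have hz₁r : z₁ ∈ (d u).range := ⟨z₂, hz₁.symm⟩
  have hz₁p : z₁ ^ p = 1 := by
    rw [hz₁]
    exact hpow z₂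
  have hz₂p : z₂ ^ p = 1 := by
    rw [hz₂, ← map_pow, hpow, map_one]
  have hu1 : u z₁ = z₁ := by
    rw [hz₁]
    exact hT z₂
  have hu2 : u z₂ = z₂ * z₁ := by
    rw [hz₁, mul_inv_cancel_left]
  have hz₂ne : z₂ ≠ 1 := by
    intro h
    apply hx₀
    rw [h, map_one]
  have hgen1 : ∀ x : H, ∃ i : ℕ, x⁻¹ * u x = z₁ ^ i := hgen z₁ hz₁ne hz₁r
  have hgen0 : ∀ x : H, ∃ i : ℕ, x⁻¹ * v₀ x = z₂ ^ i := by
    intro x
    have hne : x₀⁻¹ * u x₀ ≠ 1 := by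
      intro h
      apply hz₂ne
      rw [hz₂, h, map_one]
    obtain ⟨i, hi⟩ := hgen (x₀⁻¹ * u x₀) hne ⟨x₀, rfl⟩ (g₀⁻¹ x)
    refine ⟨i, ?_⟩
    rw [hv₀, hconj, hi, map_pow, ← hz₂]
  have hv₀2 : v₀ z₂ = z₂ := by
    have e : z₂ = (g₀ x₀)⁻¹ * (g₀ * u * g₀⁻¹) (g₀ x₀) := by
      rw [hconj, MulAut.inv_apply_self, hz₂]
    rw [hv₀]
    calc (g₀ * u * g₀⁻¹) z₂ = (g₀ * u * g₀⁻¹) ((g₀ x₀)⁻¹ * (g₀ * u * g₀⁻¹) (g₀ x₀)) := by rw [← e]
      _ = (g₀ x₀)⁻¹ * (g₀ * u * g₀⁻¹) (g₀ x₀) := hTconj g₀ (g₀ x₀)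
      _ = z₂ := e.symm
  have hB2 : v₀ z₁ ≠ z₁ := by
    intro hfix
    apply hg₀
    apply stepA2 g₀ hg₀A
    intro x
    obtain ⟨i, hi⟩ := hgen1 x
    rw [hi, map_pow, ← hv₀, hfix]
  obtain ⟨j, hj⟩ := hgen0 z₁
  have hjp : ¬ p ∣ j := by
    rintro ⟨q, rfl⟩
    apply hB2
    rw [pow_mul, hz₂p, one_pow] at hj
    exact (inv_mul_eq_one.mp hj).symm
  have hv₀1 : v₀ z₁ = z₁ * z₂ ^ j := by
    rw [← hj, mul_inv_cancel_left]
  obtain ⟨m, -, hm⟩ := Nat.exists_mul_mod_eq_one_of_coprime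
    ((Nat.Prime.coprime_iff_not_dvd hp).2 hjp).symm hp.one_lt
  obtain ⟨v, hv⟩ : ∃ v : MulAut H, v = v₀ ^ m := ⟨_, rfl⟩
  have hvA : v ∈ A := by
    rw [hv]
    exact A.pow_mem hv₀A m
  have hv2 : v z₂ = z₂ := by
    rw [hv]
    exact pow_apply_fix v₀ hv₀2 m
  have hv1 : v z₁ = z₁ * z₂ := by
    rw [hv, pow_apply_mul v₀ hv₀1 (by rw [map_pow, hv₀2]) m, ← pow_mul]
    congr 1
    have e : j * m = p * (j * m / p) + 1 := by
      have e0 := Nat.div_add_mod (j * m) p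
      rw [hm] at e0
      exact e0.symm
    rw [e, pow_add, pow_mul, hz₂p, one_pow, one_mul, pow_one]
  have hgen2 : ∀ x : H, ∃ i : ℕ, x⁻¹ * v x = z₂ ^ i := by
    intro x
    obtain ⟨i, hi⟩ := hgen0 x
    refine ⟨i * m, ?_⟩
    have h1 : v₀ x = x * z₂ ^ i := by rw [← hi, mul_inv_cancel_left]
    rw [hv, pow_apply_mul v₀ h1 (by rw [map_pow, hv₀2]) m, inv_mul_cancel_left, pow_mul]
  have hz₁o : orderOf z₁ = p := orderOf_eq_prime hz₁p hz₁ne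
  have hz₂o : orderOf z₂ = p := orderOf_eq_prime hz₂p hz₂ne
  have hu_w : ∀ i j : ℕ, u (z₁ ^ i * z₂ ^ j) = z₁ ^ i * z₂ ^ j * z₁ ^ j := by
    intro i j
    rw [map_mul, map_pow, map_pow, hu1, hu2, (show Commute z₂ z₁ from hcomm _ _).mul_pow, mul_assoc]
  have hv_w : ∀ i j : ℕ, v (z₁ ^ i * z₂ ^ j) = z₁ ^ i * z₂ ^ j * z₂ ^ i := by
    intro i j
    rw [map_mul, map_pow, map_pow, hv1, hv2, (show Commute z₁ z₂ from hcomm _ _).mul_pow,
      mul_assoc, mul_assoc, hcomm (z₂ ^ i) (z₂ ^ j)]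
  have hind : ∀ i j : ℕ, u (z₁ ^ i * z₂ ^ j) = z₁ ^ i * z₂ ^ j →
      v (z₁ ^ i * z₂ ^ j) = z₁ ^ i * z₂ ^ j → z₁ ^ i = 1 ∧ z₂ ^ j = 1 := by
    intro i j h1 h2
    rw [hu_w] at h1
    rw [hv_w] at h2
    have e1 : z₁ ^ j = 1 := mul_left_cancel (h1.trans (mul_one _).symm)
    have e2 : z₂ ^ i = 1 := mul_left_cancel (h2.trans (mul_one _).symm)
    have d1 : orderOf z₁ ∣ j := orderOf_dvd_of_pow_eq_one e1
    have d2 : orderOf z₂ ∣ i := orderOf_dvd_of_pow_eq_one e2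
    rw [hz₁o] at d1
    rw [hz₂o] at d2
    obtain ⟨a, rfl⟩ := d1
    obtain ⟨b, rfl⟩ := d2
    exact ⟨by rw [pow_mul, hz₁p, one_pow], by rw [pow_mul, hz₂p, one_pow]⟩
  have hdec : ∀ x : H, ∃ c : H, u c = c ∧ v c = c ∧ ∃ i j : ℕ, x = c * (z₁ ^ i * z₂ ^ j) := by
    intro x
    obtain ⟨i, hi⟩ := hgen1 x
    obtain ⟨j, hj⟩ := hgen2 x
    have hux : u x = x * z₁ ^ i := by rw [← hi, mul_inv_cancel_left]
    have hvx : v x = x * z₂ ^ j := by rw [← hj, mul_inv_cancel_left]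
    refine ⟨x * (z₁ ^ j * z₂ ^ i)⁻¹, ?_, ?_, j, i, ?_⟩
    · rw [map_mul, map_inv, hu_w, hux, mul_inv_rev]
      group
    · rw [map_mul, map_inv, hv_w, hvx, mul_inv_rev]
      group
    · rw [inv_mul_cancel_right]
  let W₀ : Subgroup H :=
    { carrier := {x | ∃ i j : ℕ, x = z₁ ^ i * z₂ ^ j}
      one_mem' := ⟨0, 0, by rw [pow_zero, pow_zero, one_mul]⟩
      mul_mem' := by
        rintro _ _ ⟨i, j, rfl⟩ ⟨k, l, rfl⟩
        refine ⟨i + k, j + l, ?_⟩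
        rw [pow_add, pow_add]
        calc z₁ ^ i * z₂ ^ j * (z₁ ^ k * z₂ ^ l) = z₁ ^ i * (z₂ ^ j * z₁ ^ k) * z₂ ^ l := by
              simp only [mul_assoc]
          _ = z₁ ^ i * (z₁ ^ k * z₂ ^ j) * z₂ ^ l := by rw [hcomm (z₂ ^ j) (z₁ ^ k)]
          _ = z₁ ^ i * z₁ ^ k * (z₂ ^ j * z₂ ^ l) := by simp only [mul_assoc]
      inv_mem' := by
        rintro _ ⟨i, j, rfl⟩
        refine ⟨i * (p - 1), j * (p - 1), ?_⟩
        have e1 : z₁ ^ (i * (p - 1)) * z₁ ^ i = 1 := by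
          rw [← pow_add, ← Nat.mul_succ, Nat.succ_eq_add_one, Nat.sub_add_cancel hp.one_le,
            mul_comm, pow_mul, hz₁p, one_pow]
        have e2 : z₂ ^ (j * (p - 1)) * z₂ ^ j = 1 := by
          rw [← pow_add, ← Nat.mul_succ, Nat.succ_eq_add_one, Nat.sub_add_cancel hp.one_le,
            mul_comm, pow_mul, hz₂p, one_pow]
        symm
        apply eq_inv_of_mul_eq_one_left
        calc z₁ ^ (i * (p - 1)) * z₂ ^ (j * (p - 1)) * (z₁ ^ i * z₂ ^ j)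
            = z₁ ^ (i * (p - 1)) * (z₂ ^ (j * (p - 1)) * z₁ ^ i) * z₂ ^ j := by
              simp only [mul_assoc]
          _ = z₁ ^ (i * (p - 1)) * (z₁ ^ i * z₂ ^ (j * (p - 1))) * z₂ ^ j := by
              rw [hcomm (z₂ ^ (j * (p - 1))) (z₁ ^ i)]
          _ = z₁ ^ (i * (p - 1)) * z₁ ^ i * (z₂ ^ (j * (p - 1)) * z₂ ^ j) := by
              simp only [mul_assoc]
          _ = 1 := by rw [e1, e2, one_mul] }
  have hW₀ : ∀ x, x ∈ W₀ ↔ ∃ i j : ℕ, x = z₁ ^ i * z₂ ^ j := fun _ => Iff.rfl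
  have stepD : ∀ g ∈ A, ∃ h ∈ A, (∀ c : H, u c = c → v c = c → h c = c) ∧ h z₁ ∈ W₀ ∧
      h⁻¹ * g * u * (h⁻¹ * g)⁻¹ ∈ Subgroup.zpowers u ∧ ∃ t : ℕ, g z₁ = (h z₁) ^ t := by
    intro g hg
    obtain ⟨c, hcu, hcv, i, j, hz₃⟩ := hdec (g z₁)
    have hchoice : ∃ h ∈ A, (∀ c : H, u c = c → v c = c → h c = c) ∧ h z₁ ∈ W₀ ∧
        ∃ e : ℕ, z₁ ^ i * z₂ ^ j = (h z₁) ^ e := by
      by_cases hpi : p ∣ i
      · have hh1 : (u⁻¹ * v) z₁ = z₂ := by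
          rw [MulAut.mul_apply, hv1, hcomm z₁ z₂, ← hu2, MulAut.inv_apply_self]
        refine ⟨u⁻¹ * v, A.mul_mem (A.inv_mem huA) hvA, ?_, ?_, j, ?_⟩
        · intro c h1 h2
          rw [MulAut.mul_apply, h2]
          exact inv_fix u h1
        · rw [hh1]
          exact ⟨0, 1, by rw [pow_zero, one_mul, pow_one]⟩
        · rw [hh1]
          obtain ⟨q, rfl⟩ := hpi
          rw [pow_mul, hz₁p, one_pow, one_mul]
      · obtain ⟨k', -, hk'⟩ := Nat.exists_mul_mod_eq_one_of_coprime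
          ((Nat.Prime.coprime_iff_not_dvd hp).2 hpi).symm hp.one_lt
        have hh1 : (v ^ (k' * j)) z₁ = z₁ * z₂ ^ (k' * j) := pow_apply_mul v hv1 hv2 _
        refine ⟨v ^ (k' * j), A.pow_mem hvA _, ?_, ?_, i, ?_⟩
        · intro c _ h2
          exact pow_apply_fix v h2 _
        · rw [hh1]
          exact ⟨1, k' * j, by rw [pow_one]⟩
        · rw [hh1, (show Commute z₁ (z₂ ^ (k' * j)) from hcomm _ _).mul_pow, ← pow_mul]
          congr 1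
          have e : k' * j * i = p * (i * k' / p * j) + j := by
            have e0 := Nat.div_add_mod (i * k') p
            rw [hk'] at e0
            calc k' * j * i = (i * k') * j := by ring
              _ = (p * (i * k' / p) + 1) * j := by rw [e0]
              _ = p * (i * k' / p * j) + j := by ring
          rw [e, pow_add, pow_mul, hz₂p, one_pow, one_mul]
    obtain ⟨h, hhA, hhfix, hhz, e, he⟩ := hchoice
    have hg'A : h⁻¹ * g ∈ A := A.mul_mem (A.inv_mem hhA) hg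
    have hkey : (h⁻¹ * g) z₁ = c * z₁ ^ e := by
      rw [MulAut.mul_apply, hz₃, he, map_mul, map_pow, MulAut.inv_apply_self,
        inv_fix h (hhfix c hcu hcv)]
    have hmem : h⁻¹ * g * u * (h⁻¹ * g)⁻¹ ∈ Subgroup.zpowers u := by
      apply stepA1 _ hg'A
      intro x
      obtain ⟨n, hn⟩ := hgen1 x
      rw [hn, map_pow, map_pow, hkey, map_mul, map_pow, hcu, hu1]
    refine ⟨h, hhA, hhfix, hhz, hmem, ?_⟩
    rw [← mem_powers_iff_mem_zpowers, Submonoid.mem_powers_iff] at hmem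
    obtain ⟨m', hm'⟩ := hmem
    obtain ⟨n, hn⟩ := hgen1 ((h⁻¹ * g) z₂)
    have hun : u ((h⁻¹ * g) z₂) = (h⁻¹ * g) z₂ * z₁ ^ n := by rw [← hn, mul_inv_cancel_left]
    have e1 : (u ^ m') ((h⁻¹ * g) z₂) = (h⁻¹ * g) z₂ * (z₁ ^ n) ^ m' :=
      pow_apply_mul u hun (by rw [map_pow, hu1]) m'
    have e2 : (h⁻¹ * g * u * (h⁻¹ * g)⁻¹) ((h⁻¹ * g) z₂) = (h⁻¹ * g) (u z₂) := by
      rw [MulAut.mul_apply, MulAut.inv_apply_self, MulAut.mul_apply]
    have e3 : (h⁻¹ * g) z₁ = (z₁ ^ n) ^ m' := by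
      calc (h⁻¹ * g) z₁ = (h⁻¹ * g) (z₂⁻¹ * u z₂) := by rw [← hz₁]
        _ = ((h⁻¹ * g) z₂)⁻¹ * (h⁻¹ * g) (u z₂) := by rw [map_mul, map_inv]
        _ = ((h⁻¹ * g) z₂)⁻¹ * (u ^ m') ((h⁻¹ * g) z₂) := by rw [← e2, ← hm']
        _ = (z₁ ^ n) ^ m' := by rw [e1, inv_mul_cancel_left]
    refine ⟨n * m', ?_⟩
    have e4 : g z₁ = h ((h⁻¹ * g) z₁) := by
      rw [MulAut.mul_apply, MulAut.apply_inv_self]
    rw [e4, e3, map_pow, map_pow, pow_mul]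
  have hgW : ∀ g ∈ A, g z₁ ∈ W₀ := by
    intro g hg
    obtain ⟨h, -, -, hhz, -, t, ht⟩ := stepD g hg
    rw [ht]
    exact W₀.pow_mem hhz t
  have hD1 : ∀ g ∈ A, ∀ c : H, u c = c → v c = c → u (g c) = g c := by
    intro g hg c hcu hcv
    obtain ⟨h, hhA, hhfix, -, hmem, -⟩ := stepD g⁻¹ (A.inv_mem hg)
    rw [← mem_powers_iff_mem_zpowers, Submonoid.mem_powers_iff] at hmem
    obtain ⟨m', hm'⟩ := hmem
    have e1 : (u ^ m') c = (h⁻¹ * g⁻¹ * u * (h⁻¹ * g⁻¹)⁻¹) c := by rw [hm']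
    rw [pow_apply_fix u hcu m', mul_inv_rev, inv_inv, inv_inv] at e1
    simp only [MulAut.mul_apply] at e1
    rw [hhfix c hcu hcv] at e1
    have e2 : c = g⁻¹ (u (g c)) := by
      have e := congrArg h e1
      rw [MulAut.apply_inv_self, hhfix c hcu hcv] at e
      exact e
    have e3 := congrArg g e2
    rw [MulAut.apply_inv_self] at e3
    exact e3.symm
  have hZc_C₀ : ∀ x ∈ Zc A u, u x = x ∧ v x = x := by
    intro x hx
    refine ⟨Zc_fix A u hx, ?_⟩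
    have e : v₀ x = x := by
      rw [hv₀, MulAut.mul_apply, MulAut.mul_apply, hx g₀⁻¹ (A.inv_mem hg₀A), MulAut.apply_inv_self]
    rw [hv]
    exact pow_apply_fix v₀ e m
  have hC₀_Zc : ∀ c : H, u c = c → v c = c → c ∈ Zc A u :=
    fun c h1 h2 g hg => hD1 g hg c h1 h2
  have hWc_W₀ : Wc A u ≤ W₀ := by
    unfold Wc
    rw [Subgroup.closure_le]
    rintro y ⟨g, hg, x, rfl⟩
    obtain ⟨n, hn⟩ := hgen1 x
    rw [SetLike.mem_coe, hn, map_pow]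
    exact W₀.pow_mem (hgW g hg) n
  have hz₁W : z₁ ∈ Wc A u := by
    rw [hz₁]
    exact comm_mem_Wc A u z₂
  have hz₂W : z₂ ∈ Wc A u := Subgroup.subset_closure ⟨g₀, hg₀A, x₀, hz₂⟩
  have hW_mem : ∀ i j : ℕ, z₁ ^ i * z₂ ^ j ∈ Wc A u := fun i j =>
    (Wc A u).mul_mem ((Wc A u).pow_mem hz₁W i) ((Wc A u).pow_mem hz₂W j)
  -- the central element
  obtain ⟨n, hn⟩ : ∃ n : MulAut H, n = u * v⁻¹ * u := ⟨_, rfl⟩
  have hnA : n ∈ A := by
    rw [hn]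
    exact A.mul_mem (A.mul_mem huA (A.inv_mem hvA)) huA
  have hvinv1 : v⁻¹ z₁ = z₁ * z₂⁻¹ := by
    have e : v (z₁ * z₂⁻¹) = z₁ := by rw [map_mul, map_inv, hv1, hv2, mul_inv_cancel_right]
    calc v⁻¹ z₁ = v⁻¹ (v (z₁ * z₂⁻¹)) := by rw [e]
      _ = z₁ * z₂⁻¹ := by rw [MulAut.inv_apply_self]
  have hn1 : n z₁ = z₂⁻¹ := by
    rw [hn, MulAut.mul_apply, MulAut.mul_apply, hu1, hvinv1, map_mul, map_inv, hu1, hu2,
      mul_inv_rev, mul_inv_cancel_left]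
  have hn2 : n z₂ = z₁ := by
    have e : z₂ * (z₁ * z₂⁻¹) = z₁ := by rw [hcomm z₁ z₂⁻¹, mul_inv_cancel_left]
    rw [hn, MulAut.mul_apply, MulAut.mul_apply, hu2, map_mul, inv_fix v hv2, hvinv1, e, hu1]
  have hnc : ∀ c : H, u c = c → v c = c → n c = c := by
    intro c h1 h2
    rw [hn, MulAut.mul_apply, MulAut.mul_apply, h1, inv_fix v h2, h1]
  have hτ1 : (n * n) z₁ = z₁⁻¹ := by
    rw [MulAut.mul_apply, hn1, map_inv, hn2]
  have hτ2 : (n * n) z₂ = z₂⁻¹ := by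
    rw [MulAut.mul_apply, hn2, hn1]
  have hτc : ∀ c : H, u c = c → v c = c → (n * n) c = c := by
    intro c h1 h2
    rw [MulAut.mul_apply, hnc c h1 h2, hnc c h1 h2]
  have hτW : ∀ i j : ℕ, (n * n) (z₁ ^ i * z₂ ^ j) = (z₁ ^ i * z₂ ^ j)⁻¹ := by
    intro i j
    rw [map_mul, map_pow, map_pow, hτ1, hτ2, inv_pow, inv_pow, mul_inv_rev,
      hcomm ((z₁ ^ i)⁻¹)]
  refine ⟨?_, ?_, ?_, ?_, ?_, ?_, ?_⟩
  · rw [eq_bot_iff]
    rintro x ⟨hxZ, hxW⟩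
    obtain ⟨i, j, rfl⟩ := (hW₀ x).1 (hWc_W₀ hxW)
    obtain ⟨h1, h2⟩ := hZc_C₀ _ hxZ
    obtain ⟨e1, e2⟩ := hind i j h1 h2
    rw [Subgroup.mem_bot, e1, e2, one_mul]
  · rw [eq_top_iff]
    intro x _
    obtain ⟨c, hcu, hcv, i, j, rfl⟩ := hdec x
    exact Subgroup.mul_mem_sup (hC₀_Zc c hcu hcv) (hW_mem i j)
  · have hne : NeZero p := ⟨hp.ne_zero⟩
    have hcommW : ∀ x y : Wc A u, x * y = y * x := fun x y => Subtype.ext (hcomm _ _)
    obtain ⟨e⟩ := Cfsg.Agent.S5187.homocyclic_iso (G := Wc A u) hcommW (n := p)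
      (x1 := ⟨z₁, hz₁W⟩) (x2 := ⟨z₂, hz₂W⟩) (Subtype.ext hz₁p) (Subtype.ext hz₂p)
      (by
        rintro ⟨z, hz⟩
        obtain ⟨i, j, rfl⟩ := (hW₀ z).1 (hWc_W₀ hz)
        exact ⟨i, j, Subtype.ext rfl⟩)
      (by
        intro i j hij
        have hij' : z₁ ^ i * z₂ ^ j = 1 := congrArg Subtype.val hij
        have h1 : u (z₁ ^ i * z₂ ^ j) = z₁ ^ i * z₂ ^ j := by rw [hij', map_one]
        have h2 : v (z₁ ^ i * z₂ ^ j) = z₁ ^ i * z₂ ^ j := by rw [hij', map_one]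
        obtain ⟨e1, e2⟩ := hind i j h1 h2
        have d1 : orderOf z₁ ∣ i := orderOf_dvd_of_pow_eq_one e1
        have d2 : orderOf z₂ ∣ j := orderOf_dvd_of_pow_eq_one e2
        rw [hz₁o] at d1
        rw [hz₂o] at d2
        exact ⟨d1, d2⟩)
    rw [Nat.card_congr e.toEquiv]
    have h1 : Nat.card (Multiplicative (ZMod p × ZMod p)) = Nat.card (ZMod p × ZMod p) :=
      Nat.card_congr Multiplicative.toAdd
    rw [h1, Nat.card_prod, Nat.card_zmod, pow_two]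
  · intro w hw
    obtain ⟨i, j, rfl⟩ := (hW₀ w).1 (hWc_W₀ hw)
    rw [(show Commute (z₁ ^ i) (z₂ ^ j) from hcomm _ _).mul_pow, ← pow_mul, ← pow_mul,
      mul_comm i p, mul_comm j p, pow_mul, pow_mul, hz₁p, hz₂p, one_pow, one_pow, one_mul]
  · intro x hx
    obtain ⟨c, hcu, hcv, i, j, rfl⟩ := hdec x
    rw [map_mul, hcu, hu_w] at hx
    have e1 : z₁ ^ j = 1 := by
      have e := mul_left_cancel hx
      exact mul_left_cancel (e.trans (mul_one _).symm)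
    have d1 : orderOf z₁ ∣ j := orderOf_dvd_of_pow_eq_one e1
    rw [hz₁o] at d1
    obtain ⟨q, rfl⟩ := d1
    refine ⟨c, hC₀_Zc c hcu hcv, z₂ ^ i, ?_⟩
    rw [map_pow, hu2, (show Commute z₂ z₁ from hcomm _ _).mul_pow, inv_mul_cancel_left,
      pow_mul, hz₂p, one_pow, mul_one]
  · refine ⟨n * n, A.mul_mem hnA hnA, ?_, ?_, ?_⟩
    · ext x
      obtain ⟨c, hcu, hcv, i, j, rfl⟩ := hdec x
      have hl : (n * n * u) (c * (z₁ ^ i * z₂ ^ j)) =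
          c * ((z₁ ^ i * z₂ ^ j)⁻¹ * (z₁ ^ j)⁻¹) := by
        rw [MulAut.mul_apply, map_mul u, hcu, hu_w, map_mul, map_mul, hτc c hcu hcv, hτW,
          map_pow, hτ1, inv_pow]
      have hr : (u * (n * n)) (c * (z₁ ^ i * z₂ ^ j)) =
          c * ((z₁ ^ j)⁻¹ * (z₁ ^ i * z₂ ^ j)⁻¹) := by
        rw [MulAut.mul_apply, map_mul (n * n), hτc c hcu hcv, hτW, map_mul, hcu, map_inv, hu_w,
          mul_inv_rev]
      rw [hl, hr, hcomm ((z₁ ^ j)⁻¹)]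
    · intro c hc
      obtain ⟨h1, h2⟩ := hZc_C₀ c hc
      exact hτc c h1 h2
    · intro w hw
      obtain ⟨i, j, rfl⟩ := (hW₀ w).1 (hWc_W₀ hw)
      exact hτW i j
  · intro g hg
    obtain ⟨h, hhA, hhfix, -, hmem, -⟩ := stepD g hg
    refine ⟨h, hhA, ?_, hmem⟩
    intro c hc
    obtain ⟨h1, h2⟩ := hZc_C₀ c hc
    exact hhfix c h1 h2

end Cfsg.Agent.Lib.Helper27.Transv
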