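import Mathlib
import Cfsg.Prelude.Def_FusionSystem
import Cfsg.Agent.Lib.Helper26.FusReal
import Cfsg.Agent.Lib.Helper26.FusGrp

set_option autoImplicit false

namespace Cfsg.Agent.Lib.Helper27

open Cfsg Cfsg.FusionSystem Cfsg.Agent.Lib.Helper26

universe u

variable {Ω : Type u} [Group Ω]

/-- The fusion system on `T` whose maps are the restrictions of the automorphisms `c_t ∘ δ` of `T`
with `t ∈ T` and `δ` in a given group `Δ` of automorphisms of `T`: the fusion system of the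
semidirect product of `T` by `Δ` on `T`. -/
def autSys (T : Subgroup Ω) (Δ : Subgroup (MulAut T)) : Cfsg.FusionSystem T where
  Hom P := {φ | ∃ hP : P ≤ T, ∃ t : T, ∃ δ ∈ Δ,
    ∀ x : P, φ x = ((t * δ ⟨x, hP x.2⟩ * t⁻¹ : T) : Ω)}
  le_of_mem := by
    rintro P φ ⟨hP, t, δ, -, h⟩
    exact ⟨hP, fun x => (h x).symm ▸ (t * δ ⟨x, hP x.2⟩ * t⁻¹).2⟩
  injective_of_mem := by
    rintro P φ ⟨hP, t, δ, -, h⟩ a b hab
    rw [h a, h b] at hab
    have h1 : t * δ ⟨a, hP a.2⟩ * t⁻¹ = t * δ ⟨b, hP b.2⟩ * t⁻¹ := Subtype.ext hab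
    have h2 := δ.injective (mul_left_cancel (mul_right_cancel h1))
    exact Subtype.ext (congrArg (fun z : T => (z : Ω)) h2)
  conj_mem := by
    intro P g hP hg
    exact ⟨hP, ⟨g, hg⟩, 1, Δ.one_mem, fun x => rfl⟩
  comp_mem := by
    rintro P Q φ ψ ⟨hP, t, δ, hδ, h⟩ ⟨hQ, u, ε, hε, h'⟩ hPQ
    refine ⟨hP, u * ε t, ε * δ, Δ.mul_mem hε hδ, fun x => ?_⟩
    show ψ (φ.codRestrict Q hPQ x) = _
    rw [h']
    have e : (⟨((φ.codRestrict Q hPQ x : Q) : Ω), hQ (φ.codRestrict Q hPQ x).2⟩ : T) =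
        t * δ ⟨x, hP x.2⟩ * t⁻¹ := Subtype.ext (h x)
    rw [e, map_mul, map_mul, map_inv, MulAut.mul_apply]
    congr 1
    group
  inv_mem := by
    rintro P φ ⟨hP, t, δ, hδ, h⟩
    have hr : φ.range ≤ T := by
      rintro _ ⟨x, rfl⟩
      rw [h x]
      exact Subtype.property _
    refine ⟨(T.subtype.comp ((MulAut.conj (δ⁻¹ t⁻¹) * δ⁻¹ : MulAut T)).toMonoidHom).comp
      (Subgroup.inclusion hr), ⟨hr, δ⁻¹ t⁻¹, δ⁻¹, Δ.inv_mem hδ, fun y => rfl⟩, fun x => ?_⟩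
    have e : (Subgroup.inclusion hr ⟨φ x, ⟨x, rfl⟩⟩ : T) = t * δ ⟨x, hP x.2⟩ * t⁻¹ :=
      Subtype.ext (h x)
    show (((MulAut.conj (δ⁻¹ t⁻¹) * δ⁻¹ : MulAut T) (Subgroup.inclusion hr ⟨φ x, ⟨x, rfl⟩⟩) : T) : Ω)
      = x
    rw [e]
    have e2 : (MulAut.conj (δ⁻¹ t⁻¹) * δ⁻¹ : MulAut T) (t * δ ⟨x, hP x.2⟩ * t⁻¹) =
        ⟨x, hP x.2⟩ := by
      rw [MulAut.mul_apply, MulAut.conj_apply, map_mul δ⁻¹, map_mul δ⁻¹, MulAut.inv_apply_self,
        map_inv δ⁻¹]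
      group
    rw [e2]

theorem mem_autSys_hom (T : Subgroup Ω) (Δ : Subgroup (MulAut T)) (P : Subgroup Ω) (φ : P →* Ω) :
    φ ∈ (autSys T Δ).Hom P ↔ ∃ hP : P ≤ T, ∃ t : T, ∃ δ ∈ Δ,
      ∀ x : P, φ x = ((t * δ ⟨x, hP x.2⟩ * t⁻¹ : T) : Ω) := Iff.rfl

/-- `autSys T Δ` is realized by the semidirect product of `T` by `Δ`. -/
theorem autSys_realized (T : Subgroup Ω) (Δ : Subgroup (MulAut T)) :
    (autSys T Δ).IsRealizedBy (SemidirectProduct.inl : T →* T ⋊[Δ.subtype] Δ) := by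
  refine ⟨SemidirectProduct.inl_injective, fun P hP φ hφ => ?_⟩
  constructor
  · rintro ⟨hP', t, δ, hδ, h⟩
    refine ⟨SemidirectProduct.inl t * SemidirectProduct.inr ⟨δ, hδ⟩, fun x => ?_⟩
    have e : (⟨φ x, hφ x⟩ : T) = t * δ ⟨x, hP x.2⟩ * t⁻¹ := Subtype.ext (h x)
    rw [e, map_mul, map_mul, map_inv]
    have h1 := SemidirectProduct.inl_aut (φ := Δ.subtype) (⟨δ, hδ⟩ : Δ) (⟨x, hP x.2⟩ : T)
    have h2 : (Δ.subtype ⟨δ, hδ⟩) (⟨x, hP x.2⟩ : T) = δ ⟨x, hP x.2⟩ := rfl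
    rw [h2] at h1
    rw [h1, mul_inv_rev, ← map_inv (SemidirectProduct.inr : Δ →* T ⋊[Δ.subtype] Δ)]
    simp only [mul_assoc]
  · rintro ⟨g, hg⟩
    refine ⟨hP, g.left, (g.right : MulAut T), g.right.2, fun x => ?_⟩
    have h0 := hg x
    have h1 := SemidirectProduct.inl_aut (φ := Δ.subtype) g.right (⟨x, hP x.2⟩ : T)
    have h2 : (Δ.subtype g.right) (⟨x, hP x.2⟩ : T) = (g.right : MulAut T) ⟨x, hP x.2⟩ := rfl
    rw [h2] at h1
    have h3 : (SemidirectProduct.inl (g.left * (g.right : MulAut T) ⟨x, hP x.2⟩ * g.left⁻¹) :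
        T ⋊[Δ.subtype] Δ) = g * SemidirectProduct.inl ⟨x, hP x.2⟩ * g⁻¹ := by
      rw [map_mul, map_mul, map_inv, h1]
      conv_rhs => rw [← SemidirectProduct.inl_left_mul_inr_right g]
      rw [mul_inv_rev, ← map_inv (SemidirectProduct.inr : Δ →* T ⋊[Δ.subtype] Δ),
        ← map_inv (SemidirectProduct.inl : T →* T ⋊[Δ.subtype] Δ)]
      simp only [mul_assoc]
    rw [← h3] at h0
    have h4 := SemidirectProduct.inl_injective h0
    exact congrArg (fun z : T => (z : Ω)) h4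

/-- `autSys T Δ` is saturated when `T` is a finite `p`-group and `Δ` has order prime to `p`. -/
theorem autSys_saturated {p : ℕ} [Fact p.Prime] (T : Subgroup Ω) [Finite T] (hT : IsPGroup p T)
    (Δ : Subgroup (MulAut T)) (hΔ : (Nat.card Δ).Coprime p) : (autSys T Δ).IsSaturated p := by
  have hfinG : Finite (T ⋊[Δ.subtype] Δ) :=
    Finite.of_equiv _ (SemidirectProduct.equivProd (φ := Δ.subtype)).symm
  have hreal := autSys_realized T Δ
  have hrp : IsPGroup p (SemidirectProduct.inl : T →* T ⋊[Δ.subtype] Δ).range :=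
    hT.of_surjective (SemidirectProduct.inl : T →* T ⋊[Δ.subtype] Δ).rangeRestrict
      (MonoidHom.rangeRestrict_surjective _)
  have hidx : ¬ p ∣ (SemidirectProduct.inl : T →* T ⋊[Δ.subtype] Δ).range.index := by
    rw [SemidirectProduct.range_inl_eq_ker_rightHom, Subgroup.index_ker,
      MonoidHom.range_eq_top.mpr SemidirectProduct.rightHom_surjective, Subgroup.card_top]
    intro hdvd
    have h1 : p ∣ Nat.gcd (Nat.card Δ) p := Nat.dvd_gcd hdvd dvd_rfl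
    rw [hΔ] at h1
    exact (Fact.out : p.Prime).one_lt.ne' (Nat.dvd_one.mp h1)
  have hα := realized_surjectiveMorphism (autSys T Δ) _ hreal
    ((hrp.toSylow hidx : Sylow p (T ⋊[Δ.subtype] Δ)) : Subgroup (T ⋊[Δ.subtype] Δ))
    (IsPGroup.toSylow_coe hrp hidx)
  exact image_saturated (hrp.toSylow hidx).isPGroup'
    (Cfsg.groupFusionSystem ((hrp.toSylow hidx : Sylow p (T ⋊[Δ.subtype] Δ)) :
      Subgroup (T ⋊[Δ.subtype] Δ))) (groupFusion_saturated (hrp.toSylow hidx)) (autSys T Δ) _ hα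

end Cfsg.Agent.Lib.Helper27
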