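import Mathlib
import Cfsg.Agent.Lib.Helper26.FusGrp
import Cfsg.Agent.Lib.Helper27.Transv
import Cfsg.Agent.Lib.Helper27.D8Cfg

set_option autoImplicit false

namespace Cfsg.Agent.Lib.Helper27.D8NL

open Cfsg.Agent.Lib.Helper26 Cfsg.Agent.Lib.Helper27.Transv Cfsg.Agent.Lib.Helper27.D8Cfg

variable {L : Type*} [Group L]

/-- The fixed points of an automorphism. -/
def fixSub {H : Type*} [Group H] (u : MulAut H) : Subgroup H where
  carrier := {x | u x = x}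
  one_mem' := map_one u
  mul_mem' := fun {a b} ha hb => by
    have ha' : u a = a := ha
    have hb' : u b = b := hb
    show u (a * b) = a * b
    rw [map_mul, ha', hb']
  inv_mem' := fun {a} ha => by
    have ha' : u a = a := ha
    show u a⁻¹ = a⁻¹
    rw [map_inv, ha']

theorem cfg_nu [Finite L] (R : Sylow 2 L) {z : L} (hH : Hyp (R : Subgroup L) z) {h : L}
    (hzR : h * z * h⁻¹ ∈ (R : Subgroup L)) :
    ∃ ν ∈ Subgroup.normalizer (Ecfg (R : Subgroup L) (h * z * h⁻¹) : Set L),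
      ν * h ∈ (R : Subgroup L) := by
  haveI : Fact (Nat.Prime 2) := ⟨Nat.prime_two⟩
  have hRN := cfg_R_le_normalizer hH hzR
  have hsyl := isSylowIn_of_sylow R hRN
  have hX : IsPGroup 2 ((R : Subgroup L).map (MulAut.conj h).toMonoidHom) := R.isPGroup'.map _
  have hXN : (R : Subgroup L).map (MulAut.conj h).toMonoidHom ≤
      Subgroup.normalizer (Ecfg (R : Subgroup L) (h * z * h⁻¹) : Set L) := by
    rintro x ⟨r, hr, rfl⟩
    apply cfg_cen_le_normalizer hH hzR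
    show (h * z * h⁻¹) * (h * r * h⁻¹) = (h * r * h⁻¹) * (h * z * h⁻¹)
    calc (h * z * h⁻¹) * (h * r * h⁻¹) = h * (z * r) * h⁻¹ := by group
      _ = h * (r * z) * h⁻¹ := by rw [(hH.mem r).1 hr]
      _ = (h * r * h⁻¹) * (h * z * h⁻¹) := by group
  obtain ⟨ν, hν, hν2⟩ := hsyl.conj_le hXN hX
  refine ⟨ν, hν, hH.self _ (fun x hx => ?_)⟩
  have := hν2 (h * x * h⁻¹) ⟨x, hx, rfl⟩
  have e2 : ν * h * x * (ν * h)⁻¹ = ν * (h * x * h⁻¹) * ν⁻¹ := by group
  rw [e2]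
  exact this

theorem NL [Finite L] (R : Sylow 2 L) {z : L} (hH : Hyp (R : Subgroup L) z) {h : L}
    (hzR : h * z * h⁻¹ ∈ (R : Subgroup L)) (hne : h * z * h⁻¹ ≠ z) :
    (∀ x ∈ (R : Subgroup L), (∀ y ∈ (R : Subgroup L), x * y = y * x) →
      isY (Ecfg (R : Subgroup L) (h * z * h⁻¹)) x ∨
      isY (Ecfg (R : Subgroup L) (h * z * h⁻¹)) (x * z)) ∧
    (∀ x ∈ Wz z (Ecfg (R : Subgroup L) (h * z * h⁻¹)),
      isY (Ecfg (R : Subgroup L) (h * z * h⁻¹)) x → x = 1) ∧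
    ((∀ x, isY (Ecfg (R : Subgroup L) (h * z * h⁻¹)) x → x = 1) →
      Nat.card (Ecfg (R : Subgroup L) (h * z * h⁻¹)) = 4) := by
  classical
  haveI : Fact (Nat.Prime 2) := ⟨Nat.prime_two⟩
  obtain ⟨t, ht, htE⟩ := cfg_exists_t hH hzR hne
  obtain ⟨ν, hνN, hνR⟩ := cfg_nu R hH hzR
  have hRN : (R : Subgroup L) ≤
      Subgroup.normalizer (Ecfg (R : Subgroup L) (h * z * h⁻¹) : Set L) :=
    cfg_R_le_normalizer hH hzR
  generalize hEdef : Ecfg (R : Subgroup L) (h * z * h⁻¹) = E at *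
  have hmemE : ∀ x, x ∈ E ↔ x ∈ (R : Subgroup L) ∧ (h * z * h⁻¹) * x = x * (h * z * h⁻¹) := by
    intro x
    rw [← hEdef]
    exact mem_Ecfg
  have hEcomm : ∀ x ∈ E, ∀ y ∈ E, x * y = y * x := by
    intro x hx y hy
    rw [← hEdef] at hx hy
    exact cfg_comm hH hne hx hy
  have hER : E ≤ (R : Subgroup L) := fun x hx => ((hmemE x).1 hx).1
  have hzE : z ∈ E := by rw [← hEdef]; exact cfg_z_mem hH hzR
  have hz'E : h * z * h⁻¹ ∈ E := by rw [← hEdef]; exact cfg_z'_mem hzR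
  have htz' : t * (h * z * h⁻¹) * t⁻¹ = z * (h * z * h⁻¹) := by
    apply cfg_t_conj hH hzR ht
    rw [hEdef]; exact htE
  have hidxER : E.relIndex (R : Subgroup L) = 2 := by
    rw [← hEdef]; exact cfg_relIndex hH hzR hne
  have hcentral : ∀ e ∈ E, t * e * t⁻¹ = e → ∀ y ∈ (R : Subgroup L), e * y = y * e := by
    intro e he hte
    rw [← hEdef] at he htE
    exact cfg_central hH hzR hne ht htE he hte
  let φ : ↥(Subgroup.normalizer (E : Set L)) →* MulAut ↥E := E.normalizerMonoidHom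
  have hφ : ∀ (n : ↥(Subgroup.normalizer (E : Set L))) (e : ↥E),
      ((φ n e : ↥E) : L) = (n : L) * (e : L) * (n : L)⁻¹ := fun n e => rfl
  let u : MulAut ↥E := φ ⟨t, hRN ht⟩
  let A : Subgroup (MulAut ↥E) := φ.range
  have hu : ∀ e : ↥E, ((u e : ↥E) : L) = t * (e : L) * t⁻¹ := fun e => rfl
  have hEP : IsPGroup 2 ↥E := R.isPGroup'.to_le hER
  have hcomm : ∀ x y : ↥E, x * y = y * x := fun x y => Subtype.ext (hEcomm _ x.2 _ y.2)
  have hd : ∀ e : ↥E, (e : L)⁻¹ * (t * (e : L) * t⁻¹) = 1 ∨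
      (e : L)⁻¹ * (t * (e : L) * t⁻¹) = z := by
    intro e
    have := hH.comm (e : L)⁻¹ ((R : Subgroup L).inv_mem (hER e.2)) t ht
    rw [inv_inv] at this
    have e2 : (e : L)⁻¹ * t * (e : L) * t⁻¹ = (e : L)⁻¹ * (t * (e : L) * t⁻¹) := by group
    rwa [e2] at this
  have htz : t * z * t⁻¹ = z := by
    calc t * z * t⁻¹ = (z * t) * t⁻¹ := by rw [(hH.mem t).1 ht]
      _ = z := by group
  have hT : ∀ x : ↥E, u (x⁻¹ * u x) = x⁻¹ * u x := by
    intro x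
    apply Subtype.ext
    rw [hu]
    show t * ((x : L)⁻¹ * (t * (x : L) * t⁻¹)) * t⁻¹ = (x : L)⁻¹ * (t * (x : L) * t⁻¹)
    rcases hd x with e | e
    · rw [e]; group
    · rw [e]; exact htz
  have hC : ∀ x, x ∈ fixSub u ↔ u x = x := fun x => Iff.rfl
  have huz' : u ⟨h * z * h⁻¹, hz'E⟩ = ⟨z * (h * z * h⁻¹), E.mul_mem hzE hz'E⟩ :=
    Subtype.ext htz'
  have hub : ∀ b : ↥E, u b = b ∨ u b = ⟨z, hzE⟩ * b := by
    intro b
    rcases hH.conj_cases ht (hER b.2) with e | e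
    · left; exact Subtype.ext e
    · right; exact Subtype.ext e
  have hCidx : (fixSub u).index = 2 := by
    rw [Subgroup.index_eq_two_iff]
    refine ⟨⟨h * z * h⁻¹, hz'E⟩, fun b => ?_⟩
    rcases hub b with e | e
    · right
      refine ⟨e, fun hb => ?_⟩
      have hb' : u (b * ⟨h * z * h⁻¹, hz'E⟩) = b * ⟨h * z * h⁻¹, hz'E⟩ := hb
      rw [map_mul, e, huz'] at hb'
      have h2 : (b : L) * (z * (h * z * h⁻¹)) = (b : L) * (h * z * h⁻¹) :=
        congrArg (fun y : ↥E => (y : L)) hb'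
      have h3 : z * (h * z * h⁻¹) = h * z * h⁻¹ := mul_left_cancel h2
      exact hH.z1 (mul_right_cancel (h3.trans (one_mul _).symm))
    · left
      refine ⟨?_, fun hb => ?_⟩
      · show u (b * ⟨h * z * h⁻¹, hz'E⟩) = b * ⟨h * z * h⁻¹, hz'E⟩
        rw [map_mul, e, huz']
        apply Subtype.ext
        show z * (b : L) * (z * (h * z * h⁻¹)) = (b : L) * (h * z * h⁻¹)
        calc z * (b : L) * (z * (h * z * h⁻¹)) = (z * (b : L)) * z * (h * z * h⁻¹) := by group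
          _ = ((b : L) * z) * z * (h * z * h⁻¹) := by rw [(hH.mem _).1 (hER b.2)]
          _ = (b : L) * (z * z) * (h * z * h⁻¹) := by group
          _ = (b : L) * (h * z * h⁻¹) := by rw [hH.zz, mul_one]
      · have hb' : u b = b := hb
        rw [e] at hb'
        have h2 : z * (b : L) = (b : L) := congrArg (fun y : ↥E => (y : L)) hb'
        exact hH.z1 (mul_right_cancel (h2.trans (one_mul _).symm))
  have hEker : E.subgroupOf (Subgroup.normalizer (E : Set L)) ≤ φ.ker := by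
    intro x hx
    have hx' : (x : L) ∈ E := Subgroup.mem_subgroupOf.1 hx
    rw [MonoidHom.mem_ker]
    apply MulEquiv.ext
    intro e
    apply Subtype.ext
    rw [hφ]
    show (x : L) * (e : L) * (x : L)⁻¹ = (e : L)
    rw [hEcomm _ hx' _ e.2]
    group
  have hnot4 : ¬ 4 ∣ Nat.card A := by
    intro h4
    have h1 : Nat.card A = φ.ker.index := (Subgroup.index_ker φ).symm
    have h2 : φ.ker.index ∣ (E.subgroupOf (Subgroup.normalizer (E : Set L))).index :=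
      Subgroup.index_dvd_of_le hEker
    have h3 : E.relIndex (R : Subgroup L) *
        (R : Subgroup L).relIndex (Subgroup.normalizer (E : Set L)) =
        E.relIndex (Subgroup.normalizer (E : Set L)) :=
      Subgroup.relIndex_mul_relIndex _ _ _ hER hRN
    have h5 : (R : Subgroup L).relIndex (Subgroup.normalizer (E : Set L)) ∣
        (R : Subgroup L).index := Subgroup.relIndex_dvd_index_of_le hRN
    have h6 : ¬ 2 ∣ (R : Subgroup L).index := R.not_dvd_index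
    rw [h1] at h4
    have h8 : 4 ∣ E.relIndex (Subgroup.normalizer (E : Set L)) := h4.trans h2
    rw [← h3, hidxER] at h8
    have h9 : 2 ∣ (R : Subgroup L).relIndex (Subgroup.normalizer (E : Set L)) := by omega
    exact h6 (h9.trans h5)
  have huu : u * u = 1 := by
    have htt : t * t ∈ E := by
      rcases hH.sq t ht with e | e
      · rw [e]; exact E.one_mem
      · rw [e]; exact hzE
    have hk : ((⟨t, hRN ht⟩ : ↥(Subgroup.normalizer (E : Set L))) * ⟨t, hRN ht⟩) ∈ φ.ker :=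
      hEker (Subgroup.mem_subgroupOf.2 htt)
    rw [MonoidHom.mem_ker, map_mul] at hk
    exact hk
  have hu1 : u ≠ 1 := by
    intro hu1
    have h3 : t * (h * z * h⁻¹) * t⁻¹ = h * z * h⁻¹ :=
      congrArg (fun f : MulAut ↥E => ((f ⟨h * z * h⁻¹, hz'E⟩ : ↥E) : L)) hu1
    rw [htz'] at h3
    exact hH.z1 (mul_right_cancel (h3.trans (one_mul _).symm))
  have hord : orderOf u = 2 := orderOf_eq_prime (by rw [pow_two]; exact huu) hu1
  have hsyl : ∀ P : Subgroup (MulAut ↥E), P ≤ A → IsPGroup 2 P → u ∈ P →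
      P ≤ Subgroup.zpowers u := by
    intro P hPA hP huP
    obtain ⟨k, hk⟩ := IsPGroup.iff_card.1 hP
    have hdvd : Nat.card P ∣ Nat.card A := Subgroup.card_dvd_of_le hPA
    have hk1 : k ≤ 1 := by
      by_contra hk2
      push Not at hk2
      apply hnot4
      refine Dvd.dvd.trans ?_ hdvd
      rw [hk]
      exact (show (4 : ℕ) = 2 ^ 2 by norm_num) ▸ pow_dvd_pow 2 hk2
    have hle : Subgroup.zpowers u ≤ P := by
      rw [Subgroup.zpowers_le]; exact huP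
    have hcz : Nat.card (Subgroup.zpowers u) = 2 := by rw [Nat.card_zpowers, hord]
    have hcP : Nat.card P ≤ 2 := by
      rw [hk]
      calc 2 ^ k ≤ 2 ^ 1 := Nat.pow_le_pow_right (by norm_num) hk1
        _ = 2 := by norm_num
    exact (Subgroup.eq_of_le_of_card_ge hle (by rw [hcz]; exact hcP)).ge
  have hnn : ∃ g ∈ A, g * u * g⁻¹ ∉ Subgroup.zpowers u := by
    have hνi : ν⁻¹ ∈ Subgroup.normalizer (E : Set L) := Subgroup.inv_mem _ hνN
    refine ⟨φ ⟨ν⁻¹, hνi⟩, ⟨_, rfl⟩, fun hmem => ?_⟩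
    have hs : (h * z * h⁻¹) * (ν⁻¹ * t * ν) = (ν⁻¹ * t * ν) * (h * z * h⁻¹) := by
      rw [hH.comm_conj_iff]
      have e2 : h⁻¹ * (ν⁻¹ * t * ν) * h = (ν * h)⁻¹ * t * (ν * h) := by group
      rw [e2]
      exact (R : Subgroup L).mul_mem
        ((R : Subgroup L).mul_mem ((R : Subgroup L).inv_mem hνR) ht) hνR
    have hval : ((φ ⟨ν⁻¹, hνi⟩ * u * (φ ⟨ν⁻¹, hνi⟩)⁻¹) ⟨h * z * h⁻¹, hz'E⟩ : ↥E) =
        ⟨h * z * h⁻¹, hz'E⟩ := by
      have e3 : φ ⟨ν⁻¹, hνi⟩ * u * (φ ⟨ν⁻¹, hνi⟩)⁻¹ =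
          φ (⟨ν⁻¹, hνi⟩ * ⟨t, hRN ht⟩ * ⟨ν⁻¹, hνi⟩⁻¹) := by
        rw [map_mul, map_mul, map_inv]
      rw [e3]
      apply Subtype.ext
      rw [hφ]
      show ν⁻¹ * t * ν⁻¹⁻¹ * (h * z * h⁻¹) * (ν⁻¹ * t * ν⁻¹⁻¹)⁻¹ = h * z * h⁻¹
      rw [inv_inv]
      calc ν⁻¹ * t * ν * (h * z * h⁻¹) * (ν⁻¹ * t * ν)⁻¹
          = ((ν⁻¹ * t * ν) * (h * z * h⁻¹)) * (ν⁻¹ * t * ν)⁻¹ := by group
        _ = ((h * z * h⁻¹) * (ν⁻¹ * t * ν)) * (ν⁻¹ * t * ν)⁻¹ := by rw [hs]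
        _ = h * z * h⁻¹ := by group
    rcases mem_zpowers_two huu hmem with e | e
    · apply hu1
      have e4 : u = (φ ⟨ν⁻¹, hνi⟩)⁻¹ * (φ ⟨ν⁻¹, hνi⟩ * u * (φ ⟨ν⁻¹, hνi⟩)⁻¹) * φ ⟨ν⁻¹, hνi⟩ := by
        group
      rw [e4, e]
      group
    · rw [e, huz'] at hval
      have h2 : z * (h * z * h⁻¹) = h * z * h⁻¹ := congrArg (fun y : ↥E => (y : L)) hval
      exact hH.z1 (mul_right_cancel (h2.trans (one_mul _).symm))
  obtain ⟨k1, k2, k3, -, k5, -, -⟩ :=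
    key hEP hcomm A u ⟨_, rfl⟩ hT (fixSub u) hC hCidx hsyl hnn
  have hZc : ∀ c ∈ Zc A u, isY E (c : L) := by
    intro c hc
    refine ⟨c.2, fun n hn => ?_⟩
    have hcfix : t * (c : L) * t⁻¹ = c := congrArg (fun y : ↥E => (y : L)) (Zc_fix A u hc)
    have hgc := Zc_invariant A u (g := φ ⟨n, hn⟩) ⟨_, rfl⟩ hc
    have hgfix : t * (n * (c : L) * n⁻¹) * t⁻¹ = n * (c : L) * n⁻¹ :=
      congrArg (fun y : ↥E => (y : L)) (Zc_fix A u hgc)
    have hmem : n * (c : L) * n⁻¹ ∈ E := (φ ⟨n, hn⟩ c).2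
    exact hH.fus (c : L) (hER c.2) (hcentral _ c.2 hcfix) n (hER hmem)
      (hcentral _ hmem hgfix)
  refine ⟨?_, ?_, ?_⟩
  · intro x hx hxc
    have hxE : x ∈ E := (hmemE x).2 ⟨hx, (hxc _ hzR).symm⟩
    have hux : u ⟨x, hxE⟩ = ⟨x, hxE⟩ := by
      apply Subtype.ext
      show t * x * t⁻¹ = x
      rw [← hxc t ht]
      group
    obtain ⟨c, hc, y, hxy⟩ := k5 ⟨x, hxE⟩ hux
    have hxy' : x = (c : L) * ((y : L)⁻¹ * (t * (y : L) * t⁻¹)) :=
      congrArg (fun w : ↥E => (w : L)) hxy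
    rcases hd y with e | e
    · left
      rw [e, mul_one] at hxy'
      rw [hxy']
      exact hZc c hc
    · right
      rw [e] at hxy'
      have e5 : x * z = (c : L) := by rw [hxy', mul_assoc, hH.zz, mul_one]
      rw [e5]
      exact hZc c hc
  · intro x hx hxY
    have hle : Wz z E ≤ (Wc A u).map E.subtype := by
      unfold Wz
      rw [Subgroup.closure_le]
      rintro y ⟨n, hn, rfl⟩
      rw [SetLike.mem_coe, Subgroup.mem_map]
      refine ⟨φ ⟨n, hn⟩ ⟨z, hzE⟩, ?_, rfl⟩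
      apply Subgroup.subset_closure
      refine ⟨φ ⟨n, hn⟩, ⟨_, rfl⟩, ⟨h * z * h⁻¹, hz'E⟩, ?_⟩
      congr 1
      apply Subtype.ext
      show z = (h * z * h⁻¹)⁻¹ * (t * (h * z * h⁻¹) * t⁻¹)
      rw [htz', (hH.mem _).1 hzR, inv_mul_cancel_left]
    obtain ⟨w, hw, rfl⟩ := hle hx
    have hwZ : w ∈ Zc A u := by
      rintro g ⟨n, rfl⟩
      have e1 : φ n w = w := Subtype.ext (hxY.2 n n.2)
      rw [e1]
      apply Subtype.ext
      exact hxY.2 t (hRN ht)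
    have hmem : w ∈ Zc A u ⊓ Wc A u := Subgroup.mem_inf.2 ⟨hwZ, hw⟩
    rw [k1, Subgroup.mem_bot] at hmem
    rw [hmem]
    rfl
  · intro hall
    have hZbot : Zc A u = ⊥ := by
      rw [Subgroup.eq_bot_iff_forall]
      intro c hc
      exact Subtype.ext (hall _ (hZc c hc))
    rw [hZbot, bot_sup_eq] at k2
    rw [k2, Subgroup.card_top] at k3
    rw [k3]
    norm_num

end Cfsg.Agent.Lib.Helper27.D8NL
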