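import Mathlib
import Cfsg.Agent.Lib.Helper26.FusGrp
import Cfsg.Agent.Lib.Helper26.FusSat2
import Cfsg.Agent.Lib.Helper27.D8Cfg
import Cfsg.Agent.Lib.Helper27.D8NL

set_option autoImplicit false

namespace Cfsg.Agent.Lib.Helper27.D8Conj

open Cfsg.Agent.Lib.Helper26 Cfsg.Agent.Lib.Helper27.D8Cfg Cfsg.Agent.Lib.Helper27.D8NL

variable {L : Type*} [Group L]

theorem conj_analysis [Finite L] (R : Sylow 2 L) {z : L} (hH : Hyp (R : Subgroup L) z) {c : L}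
    (hc : c ∈ (R : Subgroup L)) (hcc : ∀ y ∈ (R : Subgroup L), c * y = y * c) {g : L}
    (hgR : g * c * g⁻¹ ∈ (R : Subgroup L)) (hgne : g * c * g⁻¹ ≠ c) :
    ∃ h₁ : L, h₁ * z * h₁⁻¹ ∈ (R : Subgroup L) ∧ h₁ * z * h₁⁻¹ ≠ z ∧
      isY (Ecfg (R : Subgroup L) (h₁ * z * h₁⁻¹)) (c * z) ∧
      ∃ w ∈ Wz z (Ecfg (R : Subgroup L) (h₁ * z * h₁⁻¹)), g * c * g⁻¹ = c * z * w := by
  haveI : Fact (Nat.Prime 2) := ⟨Nat.prime_two⟩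
  have hRC : (R : Subgroup L) ≤ Subgroup.centralizer {c} := by
    intro y hy
    rw [Subgroup.mem_centralizer_iff]
    intro x hx
    rw [Set.mem_singleton_iff] at hx
    rw [hx]
    exact hcc y hy
  have hsyl := isSylowIn_of_sylow R hRC
  have hX : IsPGroup 2 ((Ecfg (R : Subgroup L) (g * c * g⁻¹)).map
      (MulAut.conj g⁻¹).toMonoidHom) :=
    (R.isPGroup'.to_le (fun x hx => (mem_Ecfg.1 hx).1)).map _
  have hXC : (Ecfg (R : Subgroup L) (g * c * g⁻¹)).map (MulAut.conj g⁻¹).toMonoidHom ≤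
      Subgroup.centralizer {c} := by
    rintro x ⟨r, hr, rfl⟩
    rw [Subgroup.mem_centralizer_iff]
    intro x hx
    rw [Set.mem_singleton_iff] at hx
    rw [hx]
    show c * (g⁻¹ * r * g⁻¹⁻¹) = (g⁻¹ * r * g⁻¹⁻¹) * c
    have hr2 := (mem_Ecfg.1 hr).2
    rw [inv_inv]
    calc c * (g⁻¹ * r * g) = g⁻¹ * ((g * c * g⁻¹) * r) * g := by group
      _ = g⁻¹ * (r * (g * c * g⁻¹)) * g := by rw [hr2]
      _ = (g⁻¹ * r * g) * c := by group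
  obtain ⟨k, hk, hk2⟩ := hsyl.conj_le hXC hX
  have hkc : c * k = k * c := by
    rw [Subgroup.mem_centralizer_iff] at hk
    exact hk c rfl
  -- `h₁ := g * k⁻¹`
  have hconj : (g * k⁻¹) * c * (g * k⁻¹)⁻¹ = g * c * g⁻¹ := by
    calc (g * k⁻¹) * c * (g * k⁻¹)⁻¹ = g * (k⁻¹ * (c * k)) * g⁻¹ := by group
      _ = g * (k⁻¹ * (k * c)) * g⁻¹ := by rw [hkc]
      _ = g * c * g⁻¹ := by group
  have hXmem : ∀ x ∈ Ecfg (R : Subgroup L) (g * c * g⁻¹),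
      (g * k⁻¹)⁻¹ * x * (g * k⁻¹) ∈ (R : Subgroup L) := by
    intro x hx
    have h1 := hk2 (g⁻¹ * x * g⁻¹⁻¹) ⟨x, hx, rfl⟩
    have e2 : (g * k⁻¹)⁻¹ * x * (g * k⁻¹) = k * (g⁻¹ * x * g⁻¹⁻¹) * k⁻¹ := by group
    rw [e2]
    exact h1
  have hzX : z ∈ Ecfg (R : Subgroup L) (g * c * g⁻¹) :=
    mem_Ecfg.2 ⟨hH.zR, ((hH.mem _).1 hgR).symm⟩
  have h1R : (g * k⁻¹) * z * (g * k⁻¹)⁻¹ ∈ (R : Subgroup L) := by
    rw [hH.mem]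
    exact ((hH.comm_conj_iff (g * k⁻¹) z).2 (hXmem z hzX)).symm
  have h1ne : (g * k⁻¹) * z * (g * k⁻¹)⁻¹ ≠ z := by
    intro heq
    apply hgne
    have hmem : g * k⁻¹ ∈ (R : Subgroup L) := by
      rw [hH.mem]
      calc z * (g * k⁻¹) = ((g * k⁻¹) * z * (g * k⁻¹)⁻¹) * (g * k⁻¹) := by rw [heq]
        _ = (g * k⁻¹) * z := by group
    rw [← hconj, ← hcc _ hmem]
    group
  refine ⟨g * k⁻¹, h1R, h1ne, ?_⟩
  obtain ⟨ν, hνN, hνR⟩ := cfg_nu R hH h1R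
  obtain ⟨n1, -, -⟩ := NL R hH h1R h1ne
  have hνc : ν * (g * c * g⁻¹) * ν⁻¹ = c := by
    rw [← hconj]
    calc ν * ((g * k⁻¹) * c * (g * k⁻¹)⁻¹) * ν⁻¹
        = ν * (g * k⁻¹) * c * (ν * (g * k⁻¹))⁻¹ := by group
      _ = c * (ν * (g * k⁻¹)) * (ν * (g * k⁻¹))⁻¹ := by rw [hcc _ hνR]
      _ = c := by group
  have hc1 : g * c * g⁻¹ = ν⁻¹ * c * ν⁻¹⁻¹ := by
    calc g * c * g⁻¹ = ν⁻¹ * (ν * (g * c * g⁻¹) * ν⁻¹) * ν⁻¹⁻¹ := by group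
      _ = ν⁻¹ * c * ν⁻¹⁻¹ := by rw [hνc]
  have hνi : ν⁻¹ ∈ Subgroup.normalizer
      (Ecfg (R : Subgroup L) ((g * k⁻¹) * z * (g * k⁻¹)⁻¹) : Set L) :=
    Subgroup.inv_mem _ hνN
  rcases n1 c hc hcc with hY | hY
  · exfalso
    apply hgne
    rw [hc1]
    exact hY.2 _ hνi
  · refine ⟨hY, ν⁻¹ * z * ν⁻¹⁻¹, Subgroup.subset_closure ⟨ν⁻¹, hνi, rfl⟩, ?_⟩
    have h2 := hY.2 _ hνi
    calc g * c * g⁻¹ = ν⁻¹ * c * ν⁻¹⁻¹ := hc1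
      _ = ν⁻¹ * (c * z * z) * ν⁻¹⁻¹ := by rw [mul_assoc c z z, hH.zz, mul_one]
      _ = (ν⁻¹ * (c * z) * ν⁻¹⁻¹) * (ν⁻¹ * z * ν⁻¹⁻¹) := by group
      _ = c * z * (ν⁻¹ * z * ν⁻¹⁻¹) := by rw [h2]

end Cfsg.Agent.Lib.Helper27.D8Conj
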