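import Mathlib

set_option autoImplicit false

namespace Cfsg.Agent.Lib.Helper27

universe u

variable {G : Type u} [Group G]

/-- Two equal consecutive terms of the upper central series stay equal for ever. -/
theorem upperCentralSeries_stable {k : ℕ}
    (h : Subgroup.upperCentralSeries G k = Subgroup.upperCentralSeries G (k + 1)) (j : ℕ) :
    Subgroup.upperCentralSeries G (k + j) = Subgroup.upperCentralSeries G k := by
  induction j with
  | zero => rfl
  | succ j ih =>
    ext x
    have e : k + (j + 1) = (k + j) + 1 := by omega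
    rw [e]
    constructor
    · intro hx
      rw [h]
      rw [Subgroup.mem_upperCentralSeries_succ_iff] at hx ⊢
      intro y
      rw [← ih]
      exact hx y
    · intro hx
      rw [h] at hx
      rw [Subgroup.mem_upperCentralSeries_succ_iff] at hx ⊢
      intro y
      rw [ih]
      exact hx y

theorem upperCentralSeries_lt_succ [Group.IsNilpotent G] {k : ℕ}
    (h : Subgroup.upperCentralSeries G k ≠ ⊤) :
    Subgroup.upperCentralSeries G k < Subgroup.upperCentralSeries G (k + 1) := by
  refine lt_of_le_of_ne (Subgroup.upperCentralSeries_mono G (Nat.le_succ k)) (fun heq => h ?_)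
  obtain ⟨c, hc⟩ := Group.IsNilpotent.nilpotent (G := G)
  have h1 := upperCentralSeries_stable heq c
  rw [← h1]
  have h2 := Subgroup.upperCentralSeries_mono G (Nat.le_add_left c k)
  rw [hc] at h2
  exact top_le_iff.mp h2

/-- The last proper term of the upper central series does not have prime index. -/
theorem upperCentralSeries_succ_index_ne_prime {k : ℕ} (p : ℕ) [Fact p.Prime]
    (h : Subgroup.upperCentralSeries G (k + 1) ≠ ⊤) :
    (Subgroup.upperCentralSeries G (k + 1)).index ≠ p := by
  intro hidx
  apply h
  have hM : Subgroup.upperCentralSeries G (k + 1) =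
      Subgroup.comap (QuotientGroup.mk' (Subgroup.upperCentralSeries G k))
        (Subgroup.center (G ⧸ Subgroup.upperCentralSeries G k)) :=
    Subgroup.upperCentralSeriesStep_eq_comap_center (Subgroup.upperCentralSeries G k)
  have hle : Subgroup.upperCentralSeries G k ≤
      Subgroup.comap (MonoidHom.id G) (Subgroup.upperCentralSeries G (k + 1)) :=
    Subgroup.upperCentralSeries_mono G (Nat.le_succ k)
  have hcard : Nat.card (G ⧸ Subgroup.upperCentralSeries G (k + 1)) = p := by
    rw [← Subgroup.index_eq_card]
    exact hidx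
  have hcyc : IsCyclic (G ⧸ Subgroup.upperCentralSeries G (k + 1)) := isCyclic_of_prime_card hcard
  have hker : (QuotientGroup.map (Subgroup.upperCentralSeries G k)
      (Subgroup.upperCentralSeries G (k + 1)) (MonoidHom.id G) hle).ker ≤
      Subgroup.center (G ⧸ Subgroup.upperCentralSeries G k) := by
    intro xbar hx
    induction xbar using QuotientGroup.induction_on with
    | H x =>
      rw [MonoidHom.mem_ker, QuotientGroup.map_mk, MonoidHom.id_apply, QuotientGroup.eq_one_iff,
        hM] at hx
      exact hx
  have hcomm := fun a b => ((MonoidHom.isMulCommutative_of_isCyclic_of_ker_le_center _ hker).is_comm.comm a b)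
  rw [hM, eq_top_iff]
  intro x _
  rw [Subgroup.mem_comap, Subgroup.mem_center_iff]
  intro g
  exact hcomm g _

theorem card_lt_card_of_lt [Finite G] {H K : Subgroup G} (h : H < K) : Nat.card H < Nat.card K := by
  by_contra hcon
  rw [not_lt] at hcon
  exact h.ne (Subgroup.eq_of_le_of_card_ge h.le hcon)

/-- In a `p`-group of maximal class of order `p ^ n`, `n ≥ 4`, the centre has order `p` and the
second centre has order `p ^ 2`. -/
theorem card_center_of_maxClass [Finite G] {p : ℕ} [Fact p.Prime] {n : ℕ}
    (hcard : Nat.card G = p ^ n) (hn : 4 ≤ n)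
    (hZ : Subgroup.upperCentralSeries G (n - 2) ≠ ⊤) :
    Nat.card (Subgroup.center G) = p ∧ Nat.card (Subgroup.upperCentralSeries G 2) = p ^ 2 := by
  have hp : p.Prime := Fact.out
  have hG : IsPGroup p G := IsPGroup.of_card hcard
  have hnil : Group.IsNilpotent G := hG.isNilpotent
  have hne : ∀ k, k ≤ n - 2 → Subgroup.upperCentralSeries G k ≠ ⊤ := by
    intro k hk htop
    apply hZ
    have := Subgroup.upperCentralSeries_mono G hk
    rw [htop] at this
    exact top_le_iff.mp this
  have hex : ∀ k, ∃ e : ℕ, Nat.card (Subgroup.upperCentralSeries G k) = p ^ e := fun k =>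
    (hG.to_subgroup _).exists_card_eq
  choose e he using hex
  have hstrict : ∀ k, k ≤ n - 2 → e k < e (k + 1) := by
    intro k hk
    have h1 := card_lt_card_of_lt (upperCentralSeries_lt_succ (hne k hk))
    rw [he k, he (k + 1)] at h1
    exact (Nat.pow_lt_pow_iff_right hp.one_lt).mp h1
  have he0 : e 0 = 0 := by
    have h1 := he 0
    rw [Subgroup.upperCentralSeries_zero, Subgroup.card_bot] at h1
    by_contra hne0
    have := Nat.one_lt_pow hne0 hp.one_lt
    omega
  -- the top step
  have htop : e (n - 2) + 2 ≤ n := by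
    have hidx : (Subgroup.upperCentralSeries G (n - 2)).index ≠ p := by
      have e1 : n - 2 = (n - 3) + 1 := by omega
      rw [e1]
      apply upperCentralSeries_succ_index_ne_prime
      rw [← e1]
      exact hZ
    have hidx1 : (Subgroup.upperCentralSeries G (n - 2)).index ≠ 1 := by
      rw [Ne, Subgroup.index_eq_one]
      exact hZ
    have hmul := Subgroup.card_mul_index (Subgroup.upperCentralSeries G (n - 2))
    rw [he (n - 2), hcard] at hmul
    have hdvd : (Subgroup.upperCentralSeries G (n - 2)).index ∣ p ^ n := ⟨_, by rw [← hmul, mul_comm]⟩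
    obtain ⟨j, hjn, hj⟩ := (Nat.dvd_prime_pow hp).mp hdvd
    rw [hj] at hmul hidx hidx1
    have hj2 : 2 ≤ j := by
      rcases j with _ | _ | j
      · simp at hidx1
      · simp at hidx
      · omega
    rw [← pow_add] at hmul
    have := Nat.pow_right_injective hp.two_le hmul
    omega
  have hgrow : ∀ j, 2 + j ≤ n - 2 → e 2 + j ≤ e (2 + j) := by
    intro j
    induction j with
    | zero => intro _; simp
    | succ j ih =>
      intro hj
      have h1 := ih (by omega)
      have h2 := hstrict (2 + j) (by omega)
      have e1 : 2 + (j + 1) = 2 + j + 1 := by omega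
      rw [e1]
      omega
  have h01 : e 0 < e 1 := hstrict 0 (by omega)
  have h12 : e 1 < e 2 := hstrict 1 (by omega)
  have hg := hgrow (n - 4) (by omega)
  have e2 : 2 + (n - 4) = n - 2 := by omega
  rw [e2] at hg
  have hE2 : e 2 = 2 := by omega
  have hE1 : e 1 = 1 := by omega
  constructor
  · rw [← Subgroup.upperCentralSeries_one, he 1, hE1, pow_one]
  · rw [he 2, hE2]

/-- If the centre has order `p` and the second centre order `p ^ 2`, the centralizer of the second
centre is a maximal subgroup. -/
theorem centralizer_Z2_maximal [Finite G] {p : ℕ} [Fact p.Prime]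
    (hZ : Nat.card (Subgroup.center G) = p)
    (hZ2 : Nat.card (Subgroup.upperCentralSeries G 2) = p ^ 2) (Q : Subgroup G)
    (hCQ : Subgroup.centralizer (Subgroup.upperCentralSeries G 2 : Set G) ≤ Q)
    (hne : ∃ q ∈ Q, q ∉ Subgroup.centralizer (Subgroup.upperCentralSeries G 2 : Set G)) :
    Q = ⊤ := by
  have hp : p.Prime := Fact.out
  have hZle : Subgroup.center G ≤ Subgroup.upperCentralSeries G 2 := by
    rw [← Subgroup.upperCentralSeries_one]
    exact Subgroup.upperCentralSeries_mono G (by omega)
  -- an element of the second centre outside the centre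
  have hlt : Subgroup.center G < Subgroup.upperCentralSeries G 2 := by
    refine lt_of_le_of_ne hZle (fun heq => ?_)
    rw [← heq, hZ] at hZ2
    have : p ^ 1 = p ^ 2 := by rw [pow_one]; exact hZ2
    have := Nat.pow_right_injective hp.two_le this
    omega
  obtain ⟨x, hx2, hxZ⟩ := SetLike.exists_of_lt hlt
  -- the second centre is generated by the centre and `x`
  have hgen : Subgroup.upperCentralSeries G 2 = Subgroup.center G ⊔ Subgroup.zpowers x := by
    symm
    apply Subgroup.eq_of_le_of_card_ge
      (sup_le hZle ((Subgroup.zpowers_le).mpr hx2))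
    have hlt2 : Subgroup.center G < Subgroup.center G ⊔ Subgroup.zpowers x :=
      lt_of_le_of_ne le_sup_left
        (fun heq => hxZ (heq ▸ (Subgroup.mem_sup_right (Subgroup.mem_zpowers x))))
    have h1 := card_lt_card_of_lt hlt2
    have h2 : Nat.card (Subgroup.center G ⊔ Subgroup.zpowers x : Subgroup G) ∣ p ^ 2 := by
      rw [← hZ2]
      exact Subgroup.card_dvd_of_le (sup_le hZle ((Subgroup.zpowers_le).mpr hx2))
    obtain ⟨j, hj2, hj⟩ := (Nat.dvd_prime_pow hp).mp h2
    rw [hZ, hj] at h1
    rw [hZ2, hj]
    have : 1 < j := by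
      by_contra hcon
      have hj1 : j ≤ 1 := by omega
      have := Nat.pow_le_pow_right hp.pos hj1
      rw [pow_one] at this
      omega
    have hj' : j = 2 := by omega
    rw [hj']
  -- the centralizer of the second centre is the centralizer of `x`
  have hcent : ∀ g : G, x * g = g * x →
      g ∈ Subgroup.centralizer (Subgroup.upperCentralSeries G 2 : Set G) := by
    intro g hg
    rw [Subgroup.mem_centralizer_iff]
    intro y hy
    have hle : Subgroup.upperCentralSeries G 2 ≤ Subgroup.centralizer ({g} : Set G) := by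
      rw [hgen]
      apply sup_le
      · intro z hz
        rw [Subgroup.mem_centralizer_iff]
        intro h hh
        rw [Set.mem_singleton_iff] at hh
        subst hh
        exact (Subgroup.mem_center_iff.mp hz h)
      · rw [Subgroup.zpowers_le, Subgroup.mem_centralizer_iff]
        intro h hh
        rw [Set.mem_singleton_iff] at hh
        subst hh
        exact hg.symm
    have := Subgroup.mem_centralizer_iff.mp (hle hy) g (Set.mem_singleton g)
    exact this.symm
  -- the commutator homomorphism
  have hc : ∀ g : G, x * g * x⁻¹ * g⁻¹ ∈ Subgroup.center G := by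
    intro g
    have h1 : x ∈ Subgroup.upperCentralSeries G (1 + 1) := hx2
    rw [Subgroup.mem_upperCentralSeries_succ_iff] at h1
    have h2 := h1 g
    rw [Subgroup.upperCentralSeries_one, commutatorElement_def] at h2
    exact h2
  obtain ⟨c, hcdef⟩ : ∃ c : G →* Subgroup.center G, ∀ g : G, ((c g : Subgroup.center G) : G) =
      x * g * x⁻¹ * g⁻¹ := by
    refine ⟨{ toFun := fun g => ⟨x * g * x⁻¹ * g⁻¹, hc g⟩
              map_one' := ?_
              map_mul' := ?_ }, fun g => rfl⟩
    · apply Subtype.ext
      show x * 1 * x⁻¹ * 1⁻¹ = 1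
      group
    · intro g h
      apply Subtype.ext
      show x * (g * h) * x⁻¹ * (g * h)⁻¹ = (x * g * x⁻¹ * g⁻¹) * (x * h * x⁻¹ * h⁻¹)
      have h1 := Subgroup.mem_center_iff.mp (hc h) g
      calc x * (g * h) * x⁻¹ * (g * h)⁻¹
          = x * g * x⁻¹ * g⁻¹ * (g * (x * h * x⁻¹ * h⁻¹)) * g⁻¹ := by group
        _ = x * g * x⁻¹ * g⁻¹ * ((x * h * x⁻¹ * h⁻¹) * g) * g⁻¹ := by rw [h1]
        _ = _ := by group
  have hker : ∀ g : G, c g = 1 → g ∈ Subgroup.centralizer (Subgroup.upperCentralSeries G 2 : Set G) := by
    intro g hg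
    apply hcent
    have h1 := hcdef g
    rw [hg] at h1
    have h2 : x * g * x⁻¹ * g⁻¹ = 1 := h1.symm
    calc x * g = (x * g * x⁻¹ * g⁻¹) * g * x := by group
      _ = g * x := by rw [h2, one_mul]
  obtain ⟨q, hqQ, hqC⟩ := hne
  have hcq : c q ≠ 1 := fun h => hqC (hker q h)
  rw [eq_top_iff]
  intro s _
  obtain ⟨k, hk⟩ := mem_zpowers_of_prime_card hZ hcq (g' := c s)
  have hk' : c (s * (q ^ k)⁻¹) = 1 := by
    rw [map_mul, map_inv, map_zpow]
    rw [← hk]
    exact mul_inv_cancel _
  have h1 := hCQ (hker _ hk')
  have h2 : s = (s * (q ^ k)⁻¹) * q ^ k := by group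
  rw [h2]
  exact Q.mul_mem h1 (Q.zpow_mem hqQ k)

end Cfsg.Agent.Lib.Helper27
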