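import Mathlib
import Cfsg.Prelude.Def_Transfer
import Cfsg.Agent.Lib.Helper27.PHallC
import Cfsg.Agent.S3761

set_option autoImplicit false

/-! Groups of symplectic type: the complement of the extraspecial factor. -/

namespace Cfsg.Agent.Lib.Helper27.PHall

open scoped commutatorElement

/-- The second alternative for the complement cannot occur. -/
theorem bad_case {P : Type*} [Group P] [Finite P] {p : ℕ} [hp : Fact p.Prime] (hP : IsPGroup p P)
    (hsymp : ∀ A : Subgroup P, A.Characteristic → IsMulCommutative A → IsCyclic A)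
    {C H : Subgroup P} (h : Cl2 p C H) (hHcyc : IsCyclic ↥H)
    (hHinv : ∀ α : MulAut P, ∀ x ∈ H, α x ∈ H)
    (hCself : ∀ q : P, (∀ c ∈ C, q * c = c * q) → q ∈ H)
    (g : P) (hgH : g ∈ H) (hgen : ∀ u ∈ H, ∃ k : ℕ, u = g ^ k)
    (n : ℕ) (hon : orderOf g = p ^ n) (hn1 : 1 ≤ n)
    (hZ0c : ∀ u ∈ H, u ^ p = 1 → ∀ x : P, u * x = x * u)
    (E R : Subgroup P) (hEC : E ≤ C) (hEpp : ∀ e ∈ E, (e ^ p) ^ p = 1)
    (hER : ∀ e ∈ E, ∀ r ∈ R, e * r = r * e)
    (hdec : ∀ x : P, ∃ e ∈ E, ∃ r ∈ R, x = e * r)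
    (hRself : ∀ r ∈ R, (∀ u ∈ H, r * u = u * r) → r ∈ H)
    (r : P) (hrR : r ∈ R) (hrH : r ∉ H) (hrc : r * g ^ p = g ^ p * r)
    (hQ : p ≠ 2 ∨ ∀ u ∈ Subgroup.zpowers (g ^ p), u ^ p = 1 →
      ∃ v ∈ Subgroup.zpowers (g ^ p), u = v ^ p) : False := by
  classical
  have hHab : ∀ a ∈ H, ∀ b ∈ H, a * b = b * a := fun a ha b hb => h.cen a ha b (h.le hb)
  have hHn : H.Normal := ⟨fun x hx y => by simpa using hHinv (MulAut.conj y) x hx⟩
  have := hHcyc
  have hrg : ¬ Commute r g := by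
    intro hc
    apply hrH
    apply hRself r hrR
    intro u hu
    obtain ⟨k, rfl⟩ := hgen u hu
    exact (hc.pow_right k).eq
  have hgp : g ^ p ≠ 1 := by
    intro h1
    exact hrg ((hZ0c g hgH h1 r).symm)
  have hZ1H : Subgroup.zpowers (g ^ p) ≤ H := by
    rw [Subgroup.zpowers_le]; exact H.pow_mem hgH p
  have hZ0Z1 : ∀ u ∈ H, u ^ p = 1 → u ∈ Subgroup.zpowers (g ^ p) := by
    intro u hu hup
    obtain ⟨k, rfl⟩ := hgen u hu
    rcases pow_dichotomy hP g k with ⟨j, hj⟩ | hg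
    · rw [hj]; exact Subgroup.pow_mem _ (Subgroup.mem_zpowers _) j
    · exfalso
      obtain ⟨i, hi⟩ := Subgroup.mem_zpowers_iff.1 hg
      apply hgp
      rw [← hi, ← zpow_natCast, ← zpow_mul, mul_comm, zpow_mul, zpow_natCast, hup, one_zpow]
  have hHpZ1 : ∀ u ∈ H, u ^ p ∈ Subgroup.zpowers (g ^ p) := by
    intro u hu
    obtain ⟨k, rfl⟩ := hgen u hu
    rw [← pow_mul, mul_comm, pow_mul]
    exact Subgroup.pow_mem _ (Subgroup.mem_zpowers _) k
  have hZ1inv : ∀ α : MulAut P, ∀ x ∈ Subgroup.zpowers (g ^ p), α x ∈ Subgroup.zpowers (g ^ p) := by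
    intro α x hx
    obtain ⟨i, rfl⟩ := Subgroup.mem_zpowers_iff.1 hx
    rw [map_zpow, map_pow]
    exact Subgroup.zpow_mem _ (hHpZ1 _ (hHinv α g hgH)) i
  have hNmem : ∀ x, x ∈ Subgroup.centralizer ({g ^ p} : Set P) ↔ g ^ p * x = x * g ^ p := by
    intro x
    rw [Subgroup.mem_centralizer_iff]
    simp
  have hNZ1 : ∀ u ∈ Subgroup.zpowers (g ^ p), ∀ c ∈ Subgroup.centralizer ({g ^ p} : Set P),
      u * c = c * u := by
    intro u hu c hc
    obtain ⟨i, rfl⟩ := Subgroup.mem_zpowers_iff.1 hu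
    have h1 : Commute (g ^ p) c := (hNmem c).1 hc
    exact (h1.zpow_left i).eq
  have hNinv : ∀ α : MulAut P, ∀ x ∈ Subgroup.centralizer ({g ^ p} : Set P),
      α x ∈ Subgroup.centralizer ({g ^ p} : Set P) := by
    intro α x hx
    rw [hNmem]
    have h1 : α⁻¹ (g ^ p) ∈ Subgroup.zpowers (g ^ p) := hZ1inv α⁻¹ _ (Subgroup.mem_zpowers _)
    have h2 := hNZ1 _ h1 x hx
    have h3 := congrArg α h2
    simpa using h3
  have hCN : C ≤ Subgroup.centralizer ({g ^ p} : Set P) :=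
    fun c hc => (hNmem c).2 (h.cen _ (H.pow_mem hgH p) c hc)
  have hHN : H ≤ Subgroup.centralizer ({g ^ p} : Set P) := h.le.trans hCN
  have hrN : r ∈ Subgroup.centralizer ({g ^ p} : Set P) := (hNmem r).2 hrc.symm
  have hNdec : ∀ x ∈ Subgroup.centralizer ({g ^ p} : Set P),
      ∃ e ∈ E, ∃ u ∈ H, ∃ b : ℕ, x = e * (u * r ^ b) := by
    intro x hx
    obtain ⟨e, he, t, ht, rfl⟩ := hdec x
    have htN : t ∈ Subgroup.centralizer ({g ^ p} : Set P) := by
      have h1 : t = e⁻¹ * (e * t) := by group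
      rw [h1]
      exact Subgroup.mul_mem _ (Subgroup.inv_mem _ (hCN (hEC he))) hx
    have htc : Commute t (g ^ p) := ((hNmem t).1 htN).symm
    obtain ⟨b, hb⟩ := Cfsg.Agent.S3761.coset_rep hP H hgH hon hn1 (y := r) (x := t) hrc hrg htc
    have hmem : t * (r ^ b)⁻¹ ∈ H := by
      apply hRself _ (R.mul_mem ht (R.inv_mem (R.pow_mem hrR b)))
      intro u hu
      obtain ⟨k, rfl⟩ := hgen u hu
      exact (hb.pow_right k).eq
    exact ⟨e, he, t * (r ^ b)⁻¹, hmem, b, by group⟩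
  have hrpH : r ^ p ∈ H := by
    have hc := Cfsg.Agent.S3761.pow_p_comm hP H hgH hon hn1 (g := r) hrc
    apply hRself _ (R.pow_mem hrR p)
    intro u hu
    obtain ⟨k, rfl⟩ := hgen u hu
    exact (hc.pow_right k).eq
  have hrpZ1 : r ^ p ∈ Subgroup.zpowers (g ^ p) := by
    obtain ⟨k, hk⟩ := hgen _ hrpH
    rcases pow_dichotomy hP g k with ⟨j, hj⟩ | hg
    · rw [hk, hj]; exact Subgroup.pow_mem _ (Subgroup.mem_zpowers _) j
    · exfalso
      obtain ⟨i, hi⟩ := Subgroup.mem_zpowers_iff.1 hg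
      apply hrg
      rw [← hi, ← hk]
      exact ((Commute.refl r).pow_right p).zpow_right i
  have hZ1n : (Subgroup.zpowers (g ^ p)).Normal :=
    ⟨fun x hx y => by simpa using hZ1inv (MulAut.conj y) x hx⟩
  let π : P →* P ⧸ Subgroup.zpowers (g ^ p) := QuotientGroup.mk' (Subgroup.zpowers (g ^ p))
  have hπ1 : ∀ a : P, a ∈ Subgroup.zpowers (g ^ p) → π a = 1 := fun a ha =>
    (QuotientGroup.eq_one_iff a).2 ha
  have hπ1' : ∀ a : P, π a = 1 → a ∈ Subgroup.zpowers (g ^ p) := fun a ha =>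
    (QuotientGroup.eq_one_iff a).1 ha
  have hπ : ∀ a b : P, ⁅a, b⁆ ∈ Subgroup.zpowers (g ^ p) → Commute (π a) (π b) := by
    intro a b hab
    rw [← commutatorElement_eq_one_iff_commute, ← map_commutatorElement]
    exact hπ1 _ hab
  have hπ' : ∀ a b : P, Commute (π a) (π b) → ⁅a, b⁆ ∈ Subgroup.zpowers (g ^ p) := by
    intro a b hab
    rw [← commutatorElement_eq_one_iff_commute, ← map_commutatorElement] at hab
    exact hπ1' _ hab
  have hπc : ∀ a b : P, a * b = b * a → Commute (π a) (π b) := by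
    intro a b hab
    exact Commute.map (show Commute a b from hab) π
  have cEE : ∀ e ∈ E, ∀ e' ∈ E, Commute (π e) (π e') := fun e he e' he' =>
    hπ e e' (hZ0Z1 _ (h.comm e (hEC he) e' (hEC he')) (h.comm_pow (hEC he) (hEC he')))
  have cEH : ∀ e ∈ E, ∀ u ∈ H, Commute (π e) (π u) := fun e he u hu =>
    (hπc u e (h.cen u hu e (hEC he))).symm
  have cEr : ∀ e ∈ E, Commute (π e) (π r) := fun e he => hπc e r (hER e he r hrR)
  have cHH : ∀ u ∈ H, ∀ v ∈ H, Commute (π u) (π v) := fun u hu v hv => hπc u v (hHab u hu v hv)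
  have cHr : ∀ u ∈ H, Commute (π u) (π r) := by
    intro u hu
    refine (hπ r u ?_).symm
    have hw : ⁅r, u⁆ ∈ H := by
      have h1 : ⁅r, u⁆ = (r * u * r⁻¹) * u⁻¹ := by simp [commutatorElement_def]
      rw [h1]
      exact H.mul_mem (hHn.conj_mem u hu r) (H.inv_mem hu)
    apply hZ0Z1 _ hw
    have e1 : ⁅r, u⁆ * u = r * u * r⁻¹ := by simp [commutatorElement_def]
    have e2 : (⁅r, u⁆ * u) ^ p = u ^ p := by
      rw [e1, conj_pow]
      have h1 : r * u ^ p = u ^ p * r := (hNZ1 _ (hHpZ1 u hu) r hrN).symm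
      rw [h1, mul_inv_cancel_right]
    have c1 : Commute ⁅r, u⁆ u := hHab _ hw u hu
    rw [c1.mul_pow] at e2
    simpa using e2
  have hclN : Cl2 p (Subgroup.centralizer ({g ^ p} : Set P)) (Subgroup.zpowers (g ^ p)) := by
    refine ⟨hZ1H.trans hHN, hNZ1, ?_, ?_, ?_⟩
    · intro x hx hxc
      have hxH : x ∈ H := hCself x (fun c hc => hxc c (hCN hc))
      obtain ⟨k, rfl⟩ := hgen x hxH
      rcases pow_dichotomy hP g k with ⟨j, hj⟩ | hg
      · rw [hj]; exact Subgroup.pow_mem _ (Subgroup.mem_zpowers _) j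
      · exfalso
        obtain ⟨i, hi⟩ := Subgroup.mem_zpowers_iff.1 hg
        apply hrg
        have h1 : Commute (g ^ k) r := hxc r hrN
        rw [← hi]
        exact (h1.zpow_left i).symm
    · intro x hx y hy
      obtain ⟨e, he, u, hu, b, rfl⟩ := hNdec x hx
      obtain ⟨e', he', u', hu', b', rfl⟩ := hNdec y hy
      apply hπ'
      simp only [map_mul, map_pow]
      have A1 : Commute (π e) (π e' * (π u' * π r ^ b')) :=
        (cEE e he e' he').mul_right ((cEH e he u' hu').mul_right ((cEr e he).pow_right b'))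
      have A2 : Commute (π u) (π e' * (π u' * π r ^ b')) :=
        (cEH e' he' u hu).symm.mul_right ((cHH u hu u' hu').mul_right ((cHr u hu).pow_right b'))
      have A3 : Commute (π r) (π e' * (π u' * π r ^ b')) :=
        (cEr e' he').symm.mul_right
          ((cHr u' hu').symm.mul_right ((Commute.refl (π r)).pow_right b'))
      exact A1.mul_left (A2.mul_left (A3.pow_left b))
    · intro x hx
      obtain ⟨e, he, u, hu, b, rfl⟩ := hNdec x hx
      apply hπ1'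
      rw [map_pow, map_mul, map_mul, map_pow]
      have B1 : Commute (π e) (π u * π r ^ b) :=
        (cEH e he u hu).mul_right ((cEr e he).pow_right b)
      have B2 : Commute (π u) (π r ^ b) := (cHr u hu).pow_right b
      have E1 : π e ^ p = 1 := by
        rw [← map_pow]; exact hπ1 _ (hZ0Z1 _ (h.pow e (hEC he)) (hEpp e he))
      have E2 : π u ^ p = 1 := by
        rw [← map_pow]; exact hπ1 _ (hHpZ1 u hu)
      have E3 : π r ^ p = 1 := by
        rw [← map_pow]; exact hπ1 _ hrpZ1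
      rw [B1.mul_pow, B2.mul_pow, ← pow_mul, mul_comm b p, pow_mul, E1, E2, E3]
      simp
  obtain ⟨u, hu, hgu⟩ := hclN.exists_pow_one hP hsymp hNinv hZ1inv
    ⟨r, hrN, g, hHN hgH, fun hc => hrg hc⟩ hQ g (hHN hgH)
  obtain ⟨j, hj⟩ := (Submonoid.mem_powers_iff _ _).1 (mem_powers_iff_mem_zpowers.2 hu)
  rw [← hj] at hgu
  have e1 : g * (g ^ p) ^ j = g ^ (1 + p * j) := by rw [pow_add, pow_one, pow_mul]
  rw [e1, ← pow_mul] at hgu
  have hdvd : orderOf g ∣ (1 + p * j) * p := orderOf_dvd_of_pow_eq_one hgu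
  rw [hon] at hdvd
  have hcop : Nat.Coprime (p ^ n) (1 + p * j) := by
    apply Nat.Coprime.pow_left
    rw [Nat.Prime.coprime_iff_not_dvd hp.out]
    intro hd
    have h1 : p ∣ 1 + p * j - p * j := Nat.dvd_sub hd (dvd_mul_right p j)
    rw [Nat.add_sub_cancel] at h1
    exact hp.out.one_lt.ne' (Nat.dvd_one.1 h1)
  have hd2 : p ^ n ∣ p := hcop.dvd_of_dvd_mul_left hdvd
  apply hgp
  rw [← hon] at hd2
  exact orderOf_dvd_iff_pow_eq_one.1 hd2

/-- The small case: the complement is nonabelian of order eight and the whole group is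
extraspecial. -/
theorem absorb {P : Type*} [Group P] [Finite P] {p : ℕ} [hp : Fact p.Prime] (hP : IsPGroup p P)
    {C H : Subgroup P} (h : Cl2 p C H) (hHcyc : IsCyclic ↥H)
    (hHinv : ∀ α : MulAut P, ∀ x ∈ H, α x ∈ H)
    (hCself : ∀ q : P, (∀ c ∈ C, q * c = c * q) → q ∈ H)
    (g : P) (hgH : g ∈ H) (hgen : ∀ u ∈ H, ∃ k : ℕ, u = g ^ k)
    (n : ℕ) (hon : orderOf g = p ^ n) (hn1 : 1 ≤ n)
    (z₀ : P) (hz0p : z₀ ^ p = 1) (hz0ne : z₀ ≠ 1) (hz0c : ∀ x : P, z₀ * x = x * z₀)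
    (hZ0 : ∀ u ∈ H, u ^ p = 1 → u ∈ Subgroup.zpowers z₀)
    (E R : Subgroup P) (hEC : E ≤ C) (hEpp : ∀ e ∈ E, (e ^ p) ^ p = 1)
    (hER : ∀ e ∈ E, ∀ r ∈ R, e * r = r * e)
    (hdec : ∀ x : P, ∃ e ∈ E, ∃ r ∈ R, x = e * r)
    (hRself : ∀ r ∈ R, (∀ u ∈ H, r * u = u * r) → r ∈ H)
    (hRna : ∃ a ∈ R, ∃ b ∈ R, a * b ≠ b * a)
    (hp2 : p = 2) (hg4 : (g ^ p) ^ p = 1) :
    Cfsg.IsExtraspecial p ↥(⊤ : Subgroup P) := by
  classical
  have hHab : ∀ a ∈ H, ∀ b ∈ H, a * b = b * a := fun a ha b hb => h.cen a ha b (h.le hb)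
  have hHn : H.Normal := ⟨fun x hx y => by simpa using hHinv (MulAut.conj y) x hx⟩
  have := hHcyc
  have hZc : ∀ z ∈ Subgroup.zpowers z₀, ∀ x : P, z * x = x * z := by
    intro z hz x
    obtain ⟨i, rfl⟩ := Subgroup.mem_zpowers_iff.1 hz
    exact ((show Commute z₀ x from hz0c x).zpow_left i).eq
  have hH4 : ∀ u ∈ H, (u ^ p) ^ p = 1 := by
    intro u hu
    obtain ⟨k, rfl⟩ := hgen u hu
    have h1 : ((g ^ k) ^ p) ^ p = ((g ^ p) ^ p) ^ k := by
      simp only [← pow_mul]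
      congr 1
      ring
    rw [h1, hg4, one_pow]
  have hgpc : ∀ x : P, g ^ p * x = x * g ^ p := hZc _ (hZ0 _ (H.pow_mem hgH p) hg4)
  have hRpH : ∀ r ∈ R, r ^ p ∈ H := by
    intro r hr
    have hc := Cfsg.Agent.S3761.pow_p_comm hP H hgH hon hn1 (g := r) (hgpc r).symm
    apply hRself _ (R.pow_mem hr p)
    intro u hu
    obtain ⟨k, rfl⟩ := hgen u hu
    exact (hc.pow_right k).eq
  have hRpp : ∀ r ∈ R, (r ^ p) ^ p = 1 := by
    intro r hr
    obtain ⟨k, hk⟩ := hgen _ (hRpH r hr)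
    rcases pow_dichotomy hP g k with ⟨j, hj⟩ | hg
    · rw [hk, hj, ← pow_mul, mul_comm, pow_mul, hg4, one_pow]
    · obtain ⟨i, hi⟩ := Subgroup.mem_zpowers_iff.1 hg
      have hc : Commute r g := by
        rw [← hi, ← hk]
        exact ((Commute.refl r).pow_right p).zpow_right i
      apply hH4 r
      apply hRself r hr
      intro u hu
      obtain ⟨m, rfl⟩ := hgen u hu
      exact (hc.pow_right m).eq
  have hxp : ∀ x : P, x ^ p ∈ Subgroup.zpowers z₀ := by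
    intro x
    obtain ⟨e, he, r, hr, rfl⟩ := hdec x
    have c1 : Commute e r := hER e he r hr
    rw [c1.mul_pow]
    exact Subgroup.mul_mem _ (hZ0 _ (h.pow e (hEC he)) (hEpp e he)) (hZ0 _ (hRpH r hr) (hRpp r hr))
  refine extraspecial_of hP ⊤ (Subgroup.zpowers z₀) le_top
    ((Nat.card_zpowers z₀).trans (orderOf_eq_prime hz0p hz0ne)) ?_ ?_ ?_ (fun x _ => hxp x) ?_
  · intro x _ hx
    have hxH : x ∈ H := hCself x (fun c _ => hx c (Subgroup.mem_top c))
    obtain ⟨k, hk⟩ := hgen x hxH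
    rcases pow_dichotomy hP g k with ⟨j, hj⟩ | hg
    · apply hZ0 x hxH
      rw [hk, hj, ← pow_mul, mul_comm, pow_mul, hg4, one_pow]
    · exfalso
      obtain ⟨i, hi⟩ := Subgroup.mem_zpowers_iff.1 hg
      have hgc : ∀ y : P, Commute g y := by
        intro y
        rw [← hi, ← hk]
        exact (show Commute x y from hx y (Subgroup.mem_top y)).zpow_left i
      have hRH : ∀ r ∈ R, r ∈ H := by
        intro r hr
        apply hRself r hr
        intro u hu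
        obtain ⟨m, rfl⟩ := hgen u hu
        exact ((hgc r).symm.pow_right m).eq
      obtain ⟨a, ha, b, hb, hab⟩ := hRna
      exact hab (hHab a (hRH a ha) b (hRH b hb))
  · intro z hz x _
    exact hZc z hz x
  · intro x _ y _
    subst hp2
    have hx2 : ∀ w : P, (x ^ 2)⁻¹ * w = w * (x ^ 2)⁻¹ :=
      hZc _ (Subgroup.inv_mem _ (hxp x))
    have e1 : ⁅x, y⁆ = (x * y) ^ 2 * (x ^ 2)⁻¹ * (y ^ 2)⁻¹ := by
      have hx : x⁻¹ = x * (x ^ 2)⁻¹ := by group
      have hy : y⁻¹ = y * (y ^ 2)⁻¹ := by group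
      calc ⁅x, y⁆ = x * y * x⁻¹ * y⁻¹ := rfl
        _ = x * y * (x * (x ^ 2)⁻¹) * (y * (y ^ 2)⁻¹) := by rw [← hx, ← hy]
        _ = x * y * x * ((x ^ 2)⁻¹ * y) * (y ^ 2)⁻¹ := by group
        _ = x * y * x * (y * (x ^ 2)⁻¹) * (y ^ 2)⁻¹ := by rw [hx2 y]
        _ = (x * y) ^ 2 * (x ^ 2)⁻¹ * (y ^ 2)⁻¹ := by rw [pow_two (x * y)]; group
    rw [e1]
    exact Subgroup.mul_mem _ (Subgroup.mul_mem _ (hxp _) (Subgroup.inv_mem _ (hxp x)))
      (Subgroup.inv_mem _ (hxp y))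
  · obtain ⟨a, _, b, _, hab⟩ := hRna
    exact ⟨a, Subgroup.mem_top a, b, Subgroup.mem_top b, hab⟩

end Cfsg.Agent.Lib.Helper27.PHall
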