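import Mathlib
import Cfsg.Prelude.Def_FusionSystem
import Cfsg.Prelude.Def_FusionComponents
import Cfsg.Agent.Lib.Helper26.FusNormC
import Cfsg.Agent.Lib.Helper26.FusReal
import Cfsg.Agent.Lib.Helper27.FusNormalSub

/-!
# Normal subgroups of a realizing group give normal subsystems (helper27)

For a fusion system `F` over `S` realized by `ι : S →* G` on a Sylow subgroup and a normal
subgroup `N` of `G`, the maps of `F` between subgroups of `ι⁻¹(N)` that are induced by elements of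
`N` form a normal subsystem of `F`.  If `N` meets the range of `ι` trivially, `G ⧸ N` realizes `F`.
-/

set_option autoImplicit false

namespace Cfsg.Agent.Lib.Helper27.RealNormal

open Cfsg Cfsg.FusionSystem Cfsg.Agent.Lib.Helper26 Cfsg.Agent.Lib.Helper27

universe u v

variable {Ω : Type u} [Group Ω] {S : Subgroup Ω} {G : Type v} [Group G]

/-- The extension of `ι` by `1` outside `S`. -/
noncomputable def ext1 (ι : S →* G) (x : Ω) : G := by
  classical exact if hx : x ∈ S then ι ⟨x, hx⟩ else 1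

theorem ext1_eq (ι : S →* G) {x : Ω} (hx : x ∈ S) : ext1 ι x = ι ⟨x, hx⟩ := by
  unfold ext1
  exact dif_pos hx

theorem ext1_mul (ι : S →* G) {x y : Ω} (hx : x ∈ S) (hy : y ∈ S) :
    ext1 ι (x * y) = ext1 ι x * ext1 ι y := by
  rw [ext1_eq ι hx, ext1_eq ι hy, ext1_eq ι (S.mul_mem hx hy), ← map_mul]
  rfl

theorem ext1_inv (ι : S →* G) {x : Ω} (hx : x ∈ S) : ext1 ι x⁻¹ = (ext1 ι x)⁻¹ := by
  rw [ext1_eq ι hx, ext1_eq ι (S.inv_mem hx), ← map_inv]
  rfl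

theorem ext1_inj (ι : S →* G) (hinj : Function.Injective ι) {x y : Ω} (hx : x ∈ S) (hy : y ∈ S)
    (h : ext1 ι x = ext1 ι y) : x = y := by
  rw [ext1_eq ι hx, ext1_eq ι hy] at h
  exact congrArg (fun z : S => (z : Ω)) (hinj h)

theorem ext1_mem_range (ι : S →* G) {x : Ω} (hx : x ∈ S) : ext1 ι x ∈ ι.range := by
  rw [ext1_eq ι hx]
  exact ⟨_, rfl⟩

theorem exists_of_mem_range (ι : S →* G) {y : G} (hy : y ∈ ι.range) :
    ∃ x ∈ S, ext1 ι x = y := by
  obtain ⟨s, rfl⟩ := hy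
  exact ⟨s, s.2, ext1_eq ι s.2⟩

theorem mem_pre_iff (ι : S →* G) (N : Subgroup G) {x : Ω} :
    x ∈ preimageAlong ι N ↔ x ∈ S ∧ ext1 ι x ∈ N := by
  rw [mem_preimageAlong_iff]
  constructor
  · rintro ⟨hx, h⟩
    exact ⟨hx, by rw [ext1_eq ι hx]; exact h⟩
  · rintro ⟨hx, h⟩
    exact ⟨hx, by rw [ext1_eq ι hx] at h; exact h⟩

/-! ### maps of a realized system -/

theorem real_conj (F : FusionSystem S) (ι : S →* G) (hreal : F.IsRealizedBy ι) {P : Subgroup Ω}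
    {φ : P →* Ω} (hφ : φ ∈ F.Hom P) : ∃ g : G, ∀ x : P, ext1 ι (φ x) = g * ext1 ι x * g⁻¹ := by
  obtain ⟨hP, hφS⟩ := F.le_of_mem hφ
  obtain ⟨g, hg⟩ := (hreal.2 P hP φ hφS).mp hφ
  refine ⟨g, fun x => ?_⟩
  rw [ext1_eq ι (hφS x), ext1_eq ι (hP x.2)]
  exact hg x

theorem real_of_conj (F : FusionSystem S) (ι : S →* G) (hreal : F.IsRealizedBy ι)
    {P : Subgroup Ω} (hP : P ≤ S) (φ : P →* Ω) (hφS : ∀ x : P, φ x ∈ S) (g : G)
    (h : ∀ x : P, ext1 ι (φ x) = g * ext1 ι x * g⁻¹) : φ ∈ F.Hom P := by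
  refine (hreal.2 P hP φ hφS).mpr ⟨g, fun x => ?_⟩
  have h1 := h x
  rw [ext1_eq ι (hφS x), ext1_eq ι (hP x.2)] at h1
  exact h1

theorem real_mk (F : FusionSystem S) (ι : S →* G) (hreal : F.IsRealizedBy ι) {P : Subgroup Ω}
    (hP : P ≤ S) (g : G) (hval : ∀ x : P, g * ext1 ι x * g⁻¹ ∈ ι.range) :
    ∃ ψ : P →* Ω, ψ ∈ F.Hom P ∧ ∀ x : P, ψ x ∈ S ∧ ext1 ι (ψ x) = g * ext1 ι x * g⁻¹ := by
  have hval' : ∀ x : P, g * ι ⟨x, hP x.2⟩ * g⁻¹ ∈ ι.range := fun x => by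
    rw [← ext1_eq ι (hP x.2)]
    exact hval x
  obtain ⟨ψ, hψ, hψS, hψι⟩ := realized_conj_hom F ι hreal hP g hval'
  refine ⟨ψ, hψ, fun x => ⟨hψS x, ?_⟩⟩
  rw [ext1_eq ι (hψS x), ext1_eq ι (hP x.2)]
  exact hψι x

theorem real_aut [Finite S] (F : FusionSystem S) (ι : S →* G) (hreal : F.IsRealizedBy ι)
    {U : Subgroup Ω} (hU : U ≤ S) (h : G)
    (hval : ∀ u : U, ∃ u' ∈ U, ext1 ι u' = h * ext1 ι u * h⁻¹) :
    ∃ β ∈ F.autGroup U, ∀ u : U, ext1 ι ((β u : U) : Ω) = h * ext1 ι u * h⁻¹ := by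
  haveI : Finite U := Finite.of_injective (Subgroup.inclusion hU) (Subgroup.inclusion_injective hU)
  obtain ⟨ψ, hψ, hψS⟩ := real_mk F ι hreal hU h (fun u => by
    obtain ⟨u', hu', e⟩ := hval u
    rw [← e]
    exact ext1_mem_range ι (hU hu'))
  have hψU : ∀ u : U, ψ u ∈ U := by
    intro u
    obtain ⟨u', hu', e⟩ := hval u
    have h1 : ψ u = u' := ext1_inj ι hreal.1 (hψS u).1 (hU hu') ((hψS u).2.trans e.symm)
    rw [h1]
    exact hu'
  have hr : ψ.range = U := by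
    apply Subgroup.eq_of_le_of_card_ge
    · rintro _ ⟨u, rfl⟩
      exact hψU u
    · rw [Nat.card_congr (MonoidHom.ofInjective (F.injective_of_mem hψ)).toEquiv.symm]
  obtain ⟨e, he, hex⟩ := exists_iso_of_mem F hψ hr
  refine ⟨e, (mem_autGroup_iff F hU).mpr he, fun u => ?_⟩
  rw [hex u]
  exact (hψS u).2

theorem aut_conj (F : FusionSystem S) (ι : S →* G) (hreal : F.IsRealizedBy ι)
    {U : Subgroup Ω} (hU : U ≤ S) {β : MulAut U} (hβ : β ∈ F.autGroup U) :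
    ∃ g : G, ∀ u : U, ext1 ι ((β u : U) : Ω) = g * ext1 ι u * g⁻¹ := by
  rw [mem_autGroup_iff F hU] at hβ
  exact real_conj F ι hreal (show U.subtype.comp β.toMonoidHom ∈ F.Hom U from hβ)

/-! ### the subsystem of a subgroup -/

/-- The maps of `F` between subgroups of `ι⁻¹(N)` that, read through `ι`, are conjugations by
elements of `N`. -/
def subSys (F : FusionSystem S) (ι : S →* G) (N : Subgroup G) :
    FusionSystem (preimageAlong ι N) where
  Hom P := {φ | φ ∈ F.Hom P ∧ P ≤ preimageAlong ι N ∧ (∀ x : P, φ x ∈ preimageAlong ι N) ∧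
    ∃ n ∈ N, ∀ (x : P) (hx : (x : Ω) ∈ S) (hφx : φ x ∈ S),
      ι ⟨φ x, hφx⟩ = n * ι ⟨x, hx⟩ * n⁻¹}
  le_of_mem h := ⟨h.2.1, h.2.2.1⟩
  injective_of_mem h := F.injective_of_mem h.1
  conj_mem := by
    intro P g hP hg
    have hTS := preimageAlong_le ι N
    obtain ⟨hgS, hgN⟩ := (mem_preimageAlong_iff ι N).mp hg
    refine ⟨F.conj_mem (hP.trans hTS) hgS, hP, fun x => ?_, ι ⟨g, hgS⟩, hgN, fun x hx hφx => ?_⟩
    · show g * (x : Ω) * g⁻¹ ∈ preimageAlong ι N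
      exact Subgroup.mul_mem _ (Subgroup.mul_mem _ hg (hP x.2)) (Subgroup.inv_mem _ hg)
    · rw [← map_inv, ← map_mul, ← map_mul]
      rfl
  comp_mem := by
    rintro P Q φ ψ ⟨hφ, hPT, hφT, g, hgN, hg⟩ ⟨hψ, hQT, hψT, k, hkN, hk⟩ h
    refine ⟨F.comp_mem hφ hψ h, hPT, fun x => hψT _, k * g, N.mul_mem hkN hgN,
      fun x hx hφx => ?_⟩
    have hφS := (F.le_of_mem hφ).2
    have h1 : ι ⟨ψ ⟨φ x, h x⟩, hφx⟩ = k * ι ⟨φ x, hφS x⟩ * k⁻¹ := hk ⟨φ x, h x⟩ (hφS x) hφx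
    have h2 := hg x hx (hφS x)
    rw [h2] at h1
    refine h1.trans ?_
    rw [mul_inv_rev]
    simp only [mul_assoc]
  inv_mem := by
    rintro P φ ⟨hφ, hPT, hφT, g, hgN, hg⟩
    obtain ⟨ψ, hψ, hinv⟩ := F.inv_mem hφ
    have hP := (F.le_of_mem hφ).1
    refine ⟨ψ, ⟨hψ, ?_, ?_, g⁻¹, N.inv_mem hgN, ?_⟩, hinv⟩
    · rintro _ ⟨x, rfl⟩
      exact hφT x
    · rintro ⟨_, x, rfl⟩
      rw [hinv x]
      exact hPT x.2
    · rintro ⟨_, x, rfl⟩ hy hψy
      have h1 : (⟨ψ ⟨φ x, ⟨x, rfl⟩⟩, hψy⟩ : S) = ⟨x, hP x.2⟩ := Subtype.ext (hinv x)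
      have h2 := hg x (hP x.2) hy
      refine (congrArg ι h1).trans ?_
      rw [h2]
      group

theorem subSys_mem_iff (F : FusionSystem S) (ι : S →* G) (N : Subgroup G) {P : Subgroup Ω}
    (φ : P →* Ω) : φ ∈ (subSys F ι N).Hom P ↔ φ ∈ F.Hom P ∧ P ≤ preimageAlong ι N ∧
      (∀ x : P, φ x ∈ preimageAlong ι N) ∧
      ∃ n ∈ N, ∀ x : P, ext1 ι (φ x) = n * ext1 ι x * n⁻¹ := by
  constructor
  · rintro ⟨hφ, hPT, hφT, n, hn, h⟩
    obtain ⟨hP, hφS⟩ := F.le_of_mem hφ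
    refine ⟨hφ, hPT, hφT, n, hn, fun x => ?_⟩
    rw [ext1_eq ι (hφS x), ext1_eq ι (hP x.2)]
    exact h x _ _
  · rintro ⟨hφ, hPT, hφT, n, hn, h⟩
    refine ⟨hφ, hPT, hφT, n, hn, fun x hx hφx => ?_⟩
    have h1 := h x
    rw [ext1_eq ι hφx, ext1_eq ι hx] at h1
    exact h1

/-- `ι` restricted to the preimage of `N`, with values in `N`. -/
def resHom (ι : S →* G) (N : Subgroup G) : ↥(preimageAlong ι N) →* ↥N :=
  (ι.comp (Subgroup.inclusion (preimageAlong_le ι N))).codRestrict N (fun t => by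
    obtain ⟨_, h⟩ := (mem_preimageAlong_iff ι N).mp t.2
    exact h)

theorem subSys_realized (F : FusionSystem S) (ι : S →* G) (hreal : F.IsRealizedBy ι)
    (N : Subgroup G) : (subSys F ι N).IsRealizedBy (resHom ι N) := by
  have hTS := preimageAlong_le ι N
  refine ⟨fun a b hab => ?_, fun P hP φ hφ => ?_⟩
  · have h1 : ι ⟨a, hTS a.2⟩ = ι ⟨b, hTS b.2⟩ := congrArg Subtype.val hab
    exact Subtype.ext (congrArg (fun z : S => (z : Ω)) (hreal.1 h1))
  · constructor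
    · rintro ⟨hφF, -, -, n, hn, h⟩
      exact ⟨⟨n, hn⟩, fun x => Subtype.ext (h x (hTS (hP x.2)) (hTS (hφ x)))⟩
    · rintro ⟨g, hg⟩
      have h1 : ∀ x : P, ι ⟨φ x, hTS (hφ x)⟩ = (g : G) * ι ⟨x, hTS (hP x.2)⟩ * (g : G)⁻¹ :=
        fun x => congrArg Subtype.val (hg x)
      exact ⟨(hreal.2 P (hP.trans hTS) φ (fun x => hTS (hφ x))).mpr ⟨g, h1⟩, hP, hφ, g, g.2,
        fun x hx hφx => h1 x⟩

theorem subSys_saturated [Finite S] [Finite G] {p : ℕ} [Fact p.Prime] (F : FusionSystem S)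
    (ι : S →* G) (hreal : F.IsRealizedBy ι) (S₀ : Sylow p G)
    (hS₀ : (S₀ : Subgroup G) = ι.range) (N : Subgroup G) [hN : N.Normal] :
    (subSys F ι N).IsSaturated p := by
  have hTS := preimageAlong_le ι N
  haveI : Finite (preimageAlong ι N) :=
    Finite.of_injective (Subgroup.inclusion hTS) (Subgroup.inclusion_injective hTS)
  have hsyl : IsSylowIn p N ((S₀ : Subgroup G) ⊓ N) :=
    (isSylowIn_of_sylow S₀ le_top).inf_of_normal le_top le_top
      (fun n _ k hk => hN.conj_mem k hk n)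
  obtain ⟨R, hR⟩ := hsyl
  have hrealT := subSys_realized F ι hreal N
  have hRr : (R : Subgroup N) = (resHom ι N).range := by
    rw [hR]
    ext y
    rw [Subgroup.mem_subgroupOf, Subgroup.mem_inf, hS₀]
    constructor
    · rintro ⟨⟨s, hs⟩, -⟩
      have hsN : ι s ∈ N := by
        rw [hs]
        exact y.2
      exact ⟨⟨s, (mem_preimageAlong_iff ι N).mpr ⟨s.2, hsN⟩⟩, Subtype.ext hs⟩
    · rintro ⟨t, rfl⟩
      exact ⟨⟨⟨t, hTS t.2⟩, rfl⟩, Subtype.property _⟩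
  have hsat := groupFusion_saturated R
  have hmor := realized_surjectiveMorphism (subSys F ι N) _ hrealT _ hRr
  exact image_saturated R.isPGroup' _ hsat _ _ hmor

/-- The subsystem of a normal subgroup of a realizing group is a normal subsystem. -/
theorem subSys_isNormalIn [Finite S] [Finite G] {p : ℕ} [Fact p.Prime] (F : FusionSystem S)
    (hFsat : F.IsSaturated p) (ι : S →* G) (hreal : F.IsRealizedBy ι) (S₀ : Sylow p G)
    (hS₀ : (S₀ : Subgroup G) = ι.range) (N : Subgroup G) [hN : N.Normal] :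
    (subSys F ι N).IsNormalIn F p := by
  classical
  have hTS : preimageAlong ι N ≤ S := preimageAlong_le ι N
  have hinj := hreal.1
  have hT₀mem : ∀ t ∈ preimageAlong ι N, ext1 ι t ∈ (S₀ : Subgroup G) ⊓ N := by
    intro t ht
    obtain ⟨htS, htN⟩ := (mem_pre_iff ι N).mp ht
    exact ⟨by rw [hS₀]; exact ext1_mem_range ι htS, htN⟩
  have hT₀ex : ∀ y ∈ (S₀ : Subgroup G) ⊓ N, ∃ t ∈ preimageAlong ι N, ext1 ι t = y := by
    rintro y ⟨hyS, hyN⟩
    have hyS' : y ∈ ι.range := by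
      rw [← hS₀]
      exact hyS
    obtain ⟨x, hx, rfl⟩ := exists_of_mem_range ι hyS'
    exact ⟨x, (mem_pre_iff ι N).mpr ⟨hx, hyN⟩, rfl⟩
  have hsc : ∀ {R : Subgroup Ω}, R ≤ preimageAlong ι N → ∀ {φ : R →* Ω}, φ ∈ F.Hom R →
      ∀ x : R, φ x ∈ preimageAlong ι N := by
    intro R hR φ hφ x
    obtain ⟨g, hg⟩ := real_conj F ι hreal hφ
    have hφS := (F.le_of_mem hφ).2
    obtain ⟨hxS, hxN⟩ := (mem_pre_iff ι N).mp (hR x.2)
    refine (mem_pre_iff ι N).mpr ⟨hφS x, ?_⟩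
    rw [hg x]
    exact hN.conj_mem _ hxN g
  refine ⟨⟨subSys_saturated F ι hreal S₀ hS₀ N, hFsat, fun P φ h => h.1,
    ⟨hTS, fun R hR φ hφ x => hsc hR hφ x⟩, ?_, ?_⟩, ?_⟩
  · -- invariance
    intro P hPT φ hφ α hα
    rw [subSys_mem_iff] at hφ
    obtain ⟨hφF, -, hφT, n, hn, hnφ⟩ := hφ
    obtain ⟨g, hg⟩ := aut_conj F ι hreal hTS hα
    have hP'T : (P.subgroupOf (preimageAlong ι N)).map
        ((preimageAlong ι N).subtype.comp α.toMonoidHom) ≤ preimageAlong ι N := by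
      rintro _ ⟨x, -, rfl⟩
      exact (α x).2
    have hcomp : ∀ x : P, (g * n * g⁻¹) *
        ext1 ι ((α ⟨x, hPT x.2⟩ : preimageAlong ι N) : Ω) * (g * n * g⁻¹)⁻¹ =
        ext1 ι ((α ⟨φ x, hφT x⟩ : preimageAlong ι N) : Ω) := by
      intro x
      rw [hg, hg]
      show g * n * g⁻¹ * (g * ext1 ι (x : Ω) * g⁻¹) * (g * n * g⁻¹)⁻¹ =
        g * ext1 ι (φ x) * g⁻¹
      rw [hnφ]
      group
    have hP'elt : ∀ y : ↥((P.subgroupOf (preimageAlong ι N)).map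
        ((preimageAlong ι N).subtype.comp α.toMonoidHom)),
        ∃ x : P, (y : Ω) = ((α ⟨x, hPT x.2⟩ : preimageAlong ι N) : Ω) := by
      rintro ⟨_, x, hx, rfl⟩
      exact ⟨⟨(x : Ω), hx⟩, rfl⟩
    obtain ⟨χ, hχ, hχS⟩ := real_mk F ι hreal (hP'T.trans hTS) (g * n * g⁻¹) (fun y => by
      obtain ⟨x, hx⟩ := hP'elt y
      rw [hx, hcomp x]
      exact ext1_mem_range ι (hTS (α _).2))
    have hχval : ∀ (x : P) (hαx : ((α ⟨x, hPT x.2⟩ : preimageAlong ι N) : Ω) ∈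
        (P.subgroupOf (preimageAlong ι N)).map
          ((preimageAlong ι N).subtype.comp α.toMonoidHom)),
        χ ⟨(α ⟨x, hPT x.2⟩ : preimageAlong ι N), hαx⟩ =
          ((α ⟨φ x, hφT x⟩ : preimageAlong ι N) : Ω) := by
      intro x hαx
      apply ext1_inj ι hinj (hχS _).1 (hTS (α _).2)
      rw [(hχS _).2]
      exact hcomp x
    refine ⟨χ, (subSys_mem_iff F ι N χ).mpr ⟨hχ, hP'T, fun y => ?_, g * n * g⁻¹,
      hN.conj_mem n hn g, fun y => (hχS y).2⟩, fun x hφx hαx => hχval x hαx⟩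
    obtain ⟨x, hx⟩ := hP'elt y
    have h1 : y = ⟨(α ⟨x, hPT x.2⟩ : preimageAlong ι N), hx ▸ y.2⟩ := Subtype.ext hx
    rw [h1, hχval x]
    exact (α _).2
  · -- Frattini
    intro P hPT φ hφ
    obtain ⟨g, hg⟩ := real_conj F ι hreal hφ
    have hφS := (F.le_of_mem hφ).2
    have hgtop : g ∈ Subgroup.normalizer ((((S₀ : Subgroup G) ⊓ N : Subgroup G)) : Set G) ⊔ N := by
      rw [normalizer_inf_sup_eq_top S₀ N]
      exact Subgroup.mem_top g
    obtain ⟨h, hh, n, hn, rfl⟩ := Subgroup.mem_sup_of_normal_right.mp hgtop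
    have hnval : ∀ x : P, n * ext1 ι x * n⁻¹ ∈ (S₀ : Subgroup G) ⊓ N := by
      intro x
      have h1 : ext1 ι (φ x) ∈ (S₀ : Subgroup G) ⊓ N := hT₀mem _ (hsc hPT hφ x)
      have h2 : h⁻¹ * ext1 ι (φ x) * h⁻¹⁻¹ ∈ (S₀ : Subgroup G) ⊓ N :=
        (Subgroup.mem_normalizer_iff.mp (inv_mem hh) _).mp h1
      have e : h⁻¹ * ext1 ι (φ x) * h⁻¹⁻¹ = n * ext1 ι x * n⁻¹ := by
        rw [hg]
        group
      rwa [e] at h2
    obtain ⟨φ₀, hφ₀, hφ₀S⟩ := real_mk F ι hreal (hPT.trans hTS) n (fun x => by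
      rw [← hS₀]
      exact (hnval x).1)
    have hφ₀T : ∀ x : P, φ₀ x ∈ preimageAlong ι N := fun x =>
      (mem_pre_iff ι N).mpr ⟨(hφ₀S x).1, by rw [(hφ₀S x).2]; exact (hnval x).2⟩
    obtain ⟨α, hα, hαx⟩ := real_aut F ι hreal hTS h (fun u => by
      have h1 := hT₀mem _ u.2
      have h2 : h * ext1 ι u * h⁻¹ ∈ (S₀ : Subgroup G) ⊓ N :=
        (Subgroup.mem_normalizer_iff.mp hh _).mp h1
      exact hT₀ex _ h2)
    refine ⟨α, hα, φ₀, (subSys_mem_iff F ι N φ₀).mpr ⟨hφ₀, hPT, hφ₀T, n, hn,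
      fun x => (hφ₀S x).2⟩, fun x hx => ?_⟩
    apply ext1_inj ι hinj (hφS x) (hTS (α _).2)
    rw [hαx, hg]
    show h * n * ext1 ι x * (h * n)⁻¹ = h * ext1 ι (φ₀ x) * h⁻¹
    rw [(hφ₀S x).2]
    group
  · -- extension
    intro α hα
    rw [mem_autGroup_iff _ le_rfl] at hα
    have hα' : (preimageAlong ι N).subtype.comp α.toMonoidHom ∈
        (subSys F ι N).Hom (preimageAlong ι N) := hα
    rw [subSys_mem_iff] at hα'
    obtain ⟨-, -, -, n, hn, hnα⟩ := hα'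
    have hnα' : ∀ t : preimageAlong ι N,
        ext1 ι ((α t : preimageAlong ι N) : Ω) = n * ext1 ι t * n⁻¹ := hnα
    have hnT : n ∈ Subgroup.normalizer ((((S₀ : Subgroup G) ⊓ N : Subgroup G)) : Set G) := by
      apply mem_normalizer_of_forall_conj_mem
      intro y hy
      obtain ⟨t, ht, rfl⟩ := hT₀ex y hy
      rw [← hnα' ⟨t, ht⟩]
      exact hT₀mem _ (α _).2
    obtain ⟨h, hhN, hhT, hhU, hht⟩ := subgroupFusion_extension S₀ N n hn hnT
    have hUS : preimageAlong ι N ⊔ centralizerIn S (preimageAlong ι N) ≤ S :=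
      sup_le hTS (centralizerIn_le _ _)
    have hC₀mem : ∀ c ∈ centralizerIn S (preimageAlong ι N),
        ext1 ι c ∈ centralizerIn (S₀ : Subgroup G) ((S₀ : Subgroup G) ⊓ N) := by
      intro c hc
      obtain ⟨hcS, hcc⟩ := mem_centralizerIn_iff.mp hc
      refine mem_centralizerIn_iff.mpr ⟨by rw [hS₀]; exact ext1_mem_range ι hcS,
        Subgroup.mem_centralizer_iff.2 fun y hy => ?_⟩
      obtain ⟨t, ht, rfl⟩ := hT₀ex y hy
      rw [← ext1_mul ι (hTS ht) hcS, ← ext1_mul ι hcS (hTS ht),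
        Subgroup.mem_centralizer_iff.1 hcc t ht]
    have hUmem : ∀ u ∈ preimageAlong ι N ⊔ centralizerIn S (preimageAlong ι N),
        ext1 ι u ∈ ((S₀ : Subgroup G) ⊓ N) ⊔
          centralizerIn (S₀ : Subgroup G) ((S₀ : Subgroup G) ⊓ N) := by
      have hle : preimageAlong ι N ⊔ centralizerIn S (preimageAlong ι N) ≤
          preimageAlong ι (((S₀ : Subgroup G) ⊓ N) ⊔
            centralizerIn (S₀ : Subgroup G) ((S₀ : Subgroup G) ⊓ N)) := by
        apply sup_le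
        · intro t ht
          exact (mem_pre_iff ι _).mpr ⟨hTS ht, Subgroup.mem_sup_left (hT₀mem t ht)⟩
        · intro c hc
          exact (mem_pre_iff ι _).mpr ⟨centralizerIn_le _ _ hc,
            Subgroup.mem_sup_right (hC₀mem c hc)⟩
      intro u hu
      exact ((mem_pre_iff ι _).mp (hle hu)).2
    have hUex : ∀ y ∈ ((S₀ : Subgroup G) ⊓ N) ⊔
        centralizerIn (S₀ : Subgroup G) ((S₀ : Subgroup G) ⊓ N),
        ∃ u ∈ preimageAlong ι N ⊔ centralizerIn S (preimageAlong ι N), ext1 ι u = y := by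
      have hle : ((S₀ : Subgroup G) ⊓ N) ⊔
          centralizerIn (S₀ : Subgroup G) ((S₀ : Subgroup G) ⊓ N) ≤
          imageAlong ι (preimageAlong ι N ⊔ centralizerIn S (preimageAlong ι N)) := by
        apply sup_le
        · intro y hy
          obtain ⟨t, ht, rfl⟩ := hT₀ex y hy
          exact (mem_imageAlong_iff ι _).mpr ⟨⟨t, hTS ht⟩, Subgroup.mem_sup_left ht,
            (ext1_eq ι (hTS ht)).symm⟩
        · intro y hy
          obtain ⟨hyS, hyc⟩ := mem_centralizerIn_iff.mp hy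
          rw [hS₀] at hyS
          obtain ⟨s, hs, rfl⟩ := exists_of_mem_range ι hyS
          refine (mem_imageAlong_iff ι _).mpr ⟨⟨s, hs⟩, Subgroup.mem_sup_right ?_,
            (ext1_eq ι hs).symm⟩
          refine mem_centralizerIn_iff.mpr ⟨hs, Subgroup.mem_centralizer_iff.2 fun t ht => ?_⟩
          apply ext1_inj ι hinj (S.mul_mem (hTS ht) hs) (S.mul_mem hs (hTS ht))
          rw [ext1_mul ι (hTS ht) hs, ext1_mul ι hs (hTS ht)]
          exact Subgroup.mem_centralizer_iff.1 hyc _ (hT₀mem t ht)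
      intro y hy
      obtain ⟨s, hs, rfl⟩ := (mem_imageAlong_iff ι _).mp (hle hy)
      exact ⟨s, hs, ext1_eq ι s.2⟩
    obtain ⟨β, hβ, hβx⟩ := real_aut F ι hreal hUS h (fun u =>
      hUex _ ((Subgroup.mem_normalizer_iff.mp hhU _).mp (hUmem u u.2)))
    refine ⟨β, hβ, fun x => ?_, fun c hc => ?_⟩
    · apply ext1_inj ι hinj (hUS (β _).2) (hTS (α x).2)
      rw [hβx, hnα']
      exact hht _ (hT₀mem x x.2)
    · have hcS : (c : Ω) ∈ S := hUS c.2
      have hβS : ((β c : ↥(preimageAlong ι N ⊔ centralizerIn S (preimageAlong ι N))) : Ω) ∈ S :=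
        hUS (β c).2
      have e1 : ext1 ι ((c : Ω)⁻¹ *
          ((β c : ↥(preimageAlong ι N ⊔ centralizerIn S (preimageAlong ι N))) : Ω)) =
          (ext1 ι c)⁻¹ * (h * ext1 ι c * h⁻¹) := by
        rw [ext1_mul ι (S.inv_mem hcS) hβS, ext1_inv ι hcS, hβx]
      have hc₀ := hC₀mem c hc
      have hprod : (ext1 ι c)⁻¹ * (h * ext1 ι c * h⁻¹) ∈
          Subgroup.centralizer ((((S₀ : Subgroup G) ⊓ N : Subgroup G)) : Set G) :=
        Subgroup.mul_mem _ (Subgroup.inv_mem _ (mem_centralizerIn_iff.mp hc₀).2)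
          (conj_mem_centralizer hhT (mem_centralizerIn_iff.mp hc₀).2)
      refine ⟨(mem_pre_iff ι N).mpr ⟨S.mul_mem (S.inv_mem hcS) hβS, ?_⟩,
        Subgroup.mem_centralizer_iff.2 fun t ht => ?_⟩
      · rw [e1]
        have h1 : (ext1 ι c)⁻¹ * h * (ext1 ι c)⁻¹⁻¹ ∈ N := hN.conj_mem h hhN _
        have e : (ext1 ι c)⁻¹ * (h * ext1 ι c * h⁻¹) =
            ((ext1 ι c)⁻¹ * h * (ext1 ι c)⁻¹⁻¹) * h⁻¹ := by group
        rw [e]
        exact N.mul_mem h1 (N.inv_mem hhN)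
      · apply ext1_inj ι hinj (S.mul_mem (hTS ht) (S.mul_mem (S.inv_mem hcS) hβS))
          (S.mul_mem (S.mul_mem (S.inv_mem hcS) hβS) (hTS ht))
        rw [ext1_mul ι (hTS ht) (S.mul_mem (S.inv_mem hcS) hβS),
          ext1_mul ι (S.mul_mem (S.inv_mem hcS) hβS) (hTS ht), e1]
        exact Subgroup.mem_centralizer_iff.1 hprod _ (hT₀mem t ht)

/-- If the normal subgroup `N` meets the (Sylow) range of `ι` trivially, then `G ⧸ N` realizes
`F` through the composite of `ι` and the quotient map. -/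
theorem quot_realized [Finite G] {p : ℕ} [Fact p.Prime] (F : FusionSystem S) (ι : S →* G)
    (hreal : F.IsRealizedBy ι) (S₀ : Sylow p G) (hS₀ : (S₀ : Subgroup G) = ι.range)
    (N : Subgroup G) [hN : N.Normal] (hNS : ι.range ⊓ N = ⊥) :
    F.IsRealizedBy ((QuotientGroup.mk' N).comp ι) ∧
      ∃ T : Sylow p (G ⧸ N), (T : Subgroup (G ⧸ N)) = ((QuotientGroup.mk' N).comp ι).range := by
  have hp : p.Prime := Fact.out
  have hinj := hreal.1
  -- `N` has order prime to `p`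
  have hcop : ¬ p ∣ Nat.card N := by
    have hsyl : IsSylowIn p N ((S₀ : Subgroup G) ⊓ N) :=
      (isSylowIn_of_sylow S₀ le_top).inf_of_normal le_top le_top
        (fun n _ k hk => hN.conj_mem k hk n)
    obtain ⟨R, hR⟩ := hsyl
    rw [hS₀, hNS, Subgroup.bot_subgroupOf] at hR
    have h1 := R.not_dvd_index
    rw [hR, Subgroup.index_bot] at h1
    exact h1
  have hmod : ∀ {a b : G}, (QuotientGroup.mk' N) a = (QuotientGroup.mk' N) b → a⁻¹ * b ∈ N :=
    fun h => QuotientGroup.eq.mp h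
  refine ⟨⟨fun a b hab => ?_, fun P hP φ hφ => ?_⟩, ?_⟩
  · have h1 : (ι a)⁻¹ * ι b ∈ N := hmod hab
    have h2 : (ι a)⁻¹ * ι b ∈ ι.range ⊓ N := ⟨⟨a⁻¹ * b, by rw [map_mul, map_inv]⟩, h1⟩
    rw [hNS, Subgroup.mem_bot, inv_mul_eq_one] at h2
    exact hinj h2
  · constructor
    · intro h
      obtain ⟨g, hg⟩ := (hreal.2 P hP φ hφ).mp h
      refine ⟨QuotientGroup.mk' N g, fun x => ?_⟩
      show QuotientGroup.mk' N (ι ⟨φ x, hφ x⟩) = _
      rw [hg x, map_mul, map_mul, map_inv]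
      rfl
    · rintro ⟨q, hq⟩
      obtain ⟨g, rfl⟩ := QuotientGroup.mk'_surjective N q
      -- the two subgroups
      obtain ⟨fa, hfa⟩ : ∃ fa : P →* G, ∀ x : P, fa x = ι ⟨φ x, hφ x⟩ :=
        ⟨ι.comp (φ.codRestrict S hφ), fun x => rfl⟩
      obtain ⟨fb, hfb⟩ : ∃ fb : P →* G, ∀ x : P, fb x = g * ι ⟨x, hP x.2⟩ * g⁻¹ :=
        ⟨(MulAut.conj g).toMonoidHom.comp (ι.comp (Subgroup.inclusion hP)), fun x => rfl⟩
      have hab : ∀ x : P, (fb x)⁻¹ * fa x ∈ N := by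
        intro x
        apply hmod
        rw [hfb, hfa, map_mul, map_mul, map_inv]
        exact (hq x).symm
      have hArange : fa.range ≤ ι.range := by
        rintro _ ⟨x, rfl⟩
        rw [hfa]
        exact ⟨_, rfl⟩
      have hAN : N ⊓ fa.range = ⊥ := by
        rw [eq_bot_iff, ← hNS]
        exact fun y hy => ⟨hArange hy.2, hy.1⟩
      have hAp : IsPGroup p fa.range := by
        apply S₀.isPGroup'.to_le
        rw [hS₀]
        exact hArange
      have hBp : IsPGroup p fb.range := by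
        apply (S₀.isPGroup'.map (MulAut.conj g).toMonoidHom).to_le
        rintro _ ⟨x, rfl⟩
        rw [hfb]
        refine ⟨ι ⟨x, hP x.2⟩, ?_, rfl⟩
        rw [SetLike.mem_coe, hS₀]
        exact ⟨_, rfl⟩
      have hBK : fb.range ≤ fa.range ⊔ N := by
        rintro _ ⟨x, rfl⟩
        have e : fb x = fa x * ((fb x)⁻¹ * fa x)⁻¹ := by group
        rw [e]
        exact Subgroup.mul_mem _ (Subgroup.mem_sup_left ⟨x, rfl⟩)
          (Subgroup.mem_sup_right (N.inv_mem (hab x)))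
      -- `fa.range` is a Sylow subgroup of `fa.range ⊔ N`
      have hidx : fa.range.relIndex (fa.range ⊔ N) = Nat.card N := by
        have e1 := Subgroup.relIndex_mul_relIndex ⊥ N (fa.range ⊔ N) bot_le le_sup_right
        have e2 := Subgroup.relIndex_mul_relIndex ⊥ fa.range (fa.range ⊔ N) bot_le le_sup_left
        rw [Subgroup.relIndex_bot_left, Subgroup.relIndex_bot_left] at e1 e2
        have e3 : N.relIndex (fa.range ⊔ N) = Nat.card fa.range := by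
          rw [Subgroup.relIndex_sup_right, ← Subgroup.inf_relIndex_right, hAN,
            Subgroup.relIndex_bot_left]
        rw [e3, ← e2, mul_comm] at e1
        exact (Nat.eq_of_mul_eq_mul_left Nat.card_pos e1).symm
      have hsylK : IsSylowIn p (fa.range ⊔ N) fa.range := by
        have h2 : ¬ p ∣ (fa.range.subgroupOf (fa.range ⊔ N)).index := by
          have e : (fa.range.subgroupOf (fa.range ⊔ N)).index = Nat.card N := hidx
          rw [e]
          exact hcop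
        exact ⟨(hAp.comap_subtype).toSylow h2, IsPGroup.toSylow_coe _ h2⟩
      obtain ⟨k, hk, hkB⟩ := hsylK.conj_le hBK hBp
      obtain ⟨a₀, ha₀, n, hn, rfl⟩ := Subgroup.mem_sup_of_normal_right.mp hk
      have hnB : ∀ x : P, n * fb x * n⁻¹ = fa x := by
        intro x
        have h1 : a₀ * n * fb x * (a₀ * n)⁻¹ ∈ fa.range := hkB _ ⟨x, rfl⟩
        have h2 : n * fb x * n⁻¹ ∈ fa.range := by
          have e : n * fb x * n⁻¹ = a₀⁻¹ * (a₀ * n * fb x * (a₀ * n)⁻¹) * a₀ := by group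
          rw [e]
          exact Subgroup.mul_mem _ (Subgroup.mul_mem _ (Subgroup.inv_mem _ ha₀) h1) ha₀
        have h3 : (fa x)⁻¹ * (n * fb x * n⁻¹) ∈ N ⊓ fa.range := by
          refine ⟨?_, Subgroup.mul_mem _ (Subgroup.inv_mem _ ⟨x, rfl⟩) h2⟩
          have e : (fa x)⁻¹ * (n * fb x * n⁻¹) =
              ((fb x)⁻¹ * fa x)⁻¹ * ((fb x)⁻¹ * n * (fb x)⁻¹⁻¹) * n⁻¹ := by group
          rw [e]
          exact N.mul_mem (N.mul_mem (N.inv_mem (hab x)) (hN.conj_mem n hn _)) (N.inv_mem hn)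
        rw [hAN, Subgroup.mem_bot, inv_mul_eq_one] at h3
        exact h3.symm
      refine (hreal.2 P hP φ hφ).mpr ⟨n * g, fun x => ?_⟩
      rw [← hfa, ← hnB x, hfb]
      group
  · refine ⟨S₀.mapSurjective (QuotientGroup.mk'_surjective N), ?_⟩
    rw [Sylow.coe_mapSurjective, hS₀]
    ext y
    constructor
    · rintro ⟨_, ⟨s, rfl⟩, rfl⟩
      exact ⟨s, rfl⟩
    · rintro ⟨s, rfl⟩
      exact ⟨ι s, ⟨s, rfl⟩, rfl⟩

end Cfsg.Agent.Lib.Helper27.RealNormal
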